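import Mathlib
import Cfsg.Prelude.Def_Local
import Cfsg.Prelude.Def_Classical
import Cfsg.Prelude.Def_LieTypeChar
import Cfsg.Prelude.Def_ClassificationK
import Cfsg.Prelude.Def_Classification2
import Cfsg.Agent.H183.OrthSum
import Cfsg.Agent.LieClassical.OrthFinite

/-!
# S3325 (orthogonal groups by the centralizer of an involution): the interface (helper323)

Plan: `tools/plans/S3325.md`. Every piece is a `Prop` called `P...`; the pieces are proved in the folders of their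
owners and put together in `H323/OI`.
-/

set_option autoImplicit false

namespace Cfsg.Agent.H323.OI

open Cfsg Subgroup Matrix QuadraticMap
open Cfsg.Agent.H183

/-! ### Forms -/

section forms

variable {F : Type} [Field F] {n b : ℕ}

/-- the diagonal form, as a function (exactly as in the statement S3325) -/
abbrev dq (c : Fin n → F) : (Fin n → F) → F := fun v => ∑ i, c i * v i ^ 2

/-- the diagonal form as a quadratic form -/
def dqF (c : Fin n → F) : QuadraticForm F (Fin n → F) := QuadraticMap.weightedSumSquares F c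

theorem coe_dqF (c : Fin n → F) : ⇑(dqF c) = dq c := by
  funext v
  simp [dqF, dq, QuadraticMap.weightedSumSquares_apply, pow_two]

/-- `O(U)` -/
abbrev OO (c : Fin n → F) : Type := ↥(isometryGroup F (dq c))

/-- `Ω(U)` -/
abbrev Om (c : Fin n → F) : Type := ↥(Omega F (dq c))

/-- the form of `V = U ⊥ P` -/
abbrev sqf (c : Fin n → F) (d : Fin b → F) : (Fin n ⊕ Fin b → F) → F := sumFun (dq c) (dq d)

/-- `O(V)` -/
abbrev OOV (c : Fin n → F) (d : Fin b → F) : Type := ↥(isometryGroup F (sqf c d))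

/-- `Ω(V)` -/
abbrev OmV (c : Fin n → F) (d : Fin b → F) : Type := ↥(Omega F (sqf c d))

/-- conjugation by an isometry on `Ω(Q)` -/
abbrev cj {ι : Type} [Fintype ι] [DecidableEq ι] {Q : (ι → F) → F} (g : ↥(isometryGroup F Q)) :
    MulAut ↥(Omega F Q) := MulAut.conjNormal g

/-- the matrix of an isometry -/
abbrev mx {ι : Type} [Fintype ι] [DecidableEq ι] {Q : (ι → F) → F} (g : ↥(isometryGroup F Q)) :
    Matrix ι ι F := ((g : Matrix.GeneralLinearGroup ι F) : Matrix ι ι F)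

/-- `-1` as an isometry of an even function -/
def negQ {ι : Type} [Fintype ι] [DecidableEq ι] (Q : (ι → F) → F) (hQ : ∀ v, Q (-v) = Q v) :
    ↥(isometryGroup F Q) :=
  ⟨-1, (Cfsg.Agent.ClassicalGeometry.Reflection.mem_isometryGroup_iff _ _).2 fun v => by
    rw [Units.val_neg, Units.val_one, neg_mulVec, one_mulVec, hQ]⟩

theorem mx_negQ {ι : Type} [Fintype ι] [DecidableEq ι] (Q : (ι → F) → F) (hQ : ∀ v, Q (-v) = Q v) :
    mx (negQ Q hQ) = -1 := rfl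

theorem dq_neg (c : Fin n → F) (v : Fin n → F) : dq c (-v) = dq c v := by
  simp [dq]

/-- `-1 ∈ O(U)` -/
def negI (c : Fin n → F) : OO c := negQ (dq c) (dq_neg c)

theorem sqf_neg (c : Fin n → F) (d : Fin b → F) (v : Fin n ⊕ Fin b → F) : sqf c d (-v) = sqf c d v := by
  have h1 : (-v) ∘ Sum.inl = -(v ∘ Sum.inl) := rfl
  have h2 : (-v) ∘ Sum.inr = -(v ∘ Sum.inr) := rfl
  show dq c ((-v) ∘ Sum.inl) + dq d ((-v) ∘ Sum.inr) = _
  rw [h1, h2, dq_neg, dq_neg]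

/-- `-1 ∈ O(V)` -/
def negV (c : Fin n → F) (d : Fin b → F) : OOV c d := negQ (sqf c d) (sqf_neg c d)

/-- `(g, s) ↦ g ⊥ s` -/
abbrev bb (c : Fin n → F) (d : Fin b → F) (g : OO c) (s : OO d) : OOV c d := blk (dq c) (dq d) (g, s)

/-- `τ = 1 ⊥ -1` -/
def tau (c : Fin n → F) (d : Fin b → F) : OOV c d := bb c d 1 (negI d)

/-- the embedding `Ω(U) → Ω(V)` -/
def inU (c : Fin n → F) (d : Fin b → F) : Om c →* OmV c d :=
  ((((blk (dq c) (dq d)).comp (MonoidHom.inl _ _)).comp (Omega F (dq c)).subtype)).codRestrict _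
    fun m => blk_mem_Omega (dq c) (dq d) m.1 1 m.2 (one_mem _)

theorem coe_inU (c : Fin n → F) (d : Fin b → F) (m : Om c) : ((inU c d m : OmV c d) : OOV c d) = bb c d m 1 := rfl

/-- the standing hypotheses of S3325 on the quadratic space `U` -/
structure Sp [Fintype F] (c : Fin n → F) : Prop where
  odd : Odd (Fintype.card F)
  ne : ∀ i, c i ≠ 0
  h6 : (Fintype.card F % 4 = 1 → 9 ≤ n ∨ (n = 8 ∧ IsSquare (∏ i, c i))) ∧
    (Fintype.card F % 4 = 3 → 14 ≤ n ∨ (n = 12 ∧ IsSquare (∏ i, c i)) ∨ (n = 10 ∧ ¬ IsSquare (∏ i, c i)))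

/-- `T` is a semisimilarity `(ι → F, Q) → (κ → F', Q')` with field isomorphism `σ` and multiplier `μ`. -/
def IsSS {F' : Type} [Field F'] {ι κ : Type} (Q : (ι → F) → F) (Q' : (κ → F') → F') (σ : F ≃+* F') (μ : F')
    (T : (ι → F) ≃+ (κ → F')) : Prop :=
  μ ≠ 0 ∧ (∀ (a : F) (v : ι → F), T (a • v) = σ a • T v) ∧ ∀ v, Q' (T v) = μ * σ (Q v)

/-- `g' = T g T⁻¹` -/
def Rel {F' : Type} [Field F'] {ι κ : Type} [Fintype ι] [DecidableEq ι] [Fintype κ] [DecidableEq κ]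
    {Q : (ι → F) → F} {Q' : (κ → F') → F'} (T : (ι → F) ≃+ (κ → F')) (g : ↥(isometryGroup F Q))
    (g' : ↥(isometryGroup F' Q')) : Prop :=
  ∀ v, mx g' *ᵥ T v = T (mx g *ᵥ v)

end forms

/-! ### The configuration -/

/-- the configuration of S3325 (everything but the bound on `|C_C(M)|`) -/
structure Cfg {F : Type} [Field F] {n : ℕ} (c : Fin n → F) (G : Type) [Group G] where
  t : G
  t1 : t ≠ 1
  tt : t * t = 1
  ψ : Om c →* G
  inj : Function.Injective ψ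
  fix : ∀ m, t * ψ m = ψ m * t
  nrm : ∀ g, g * t = t * g → ∀ m, g * ψ m * g⁻¹ ∈ ψ.range
  z : OO c
  z' : OO c
  zz : z * z = 1
  zz' : z' * z' = 1
  dz : (mx z).det = -1
  dz' : (mx z').det = -1
  cos : z⁻¹ * z' ∉ Omega F (dq c)
  u : G
  u' : G
  ut : u * t = t * u
  ut' : u' * t = t * u'
  uu : u * u = 1
  uu' : u' * u' = 1
  uψ : ∀ m, u * ψ m * u⁻¹ = ψ (cj z m)
  uψ' : ∀ m, u' * ψ m * u'⁻¹ = ψ (cj z' m)
  idx : Odd ((ψ.range ⊔ Subgroup.closure {u, u'}).relIndex (Subgroup.centralizer {t}))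
  ev : Even (orderOf (u * u' * u⁻¹ * u'⁻¹ *
    (ψ ⟨z * z' * z⁻¹ * z'⁻¹, commutator_mem_commutator (mem_top z) (mem_top z')⟩)⁻¹))

namespace Cfg

variable {F : Type} [Field F] {n : ℕ} {c : Fin n → F} {G : Type} [Group G] (s : Cfg c G)

/-- `[z, z'] ∈ Ω(U)` -/
def h : Om c := ⟨s.z * s.z' * s.z⁻¹ * s.z'⁻¹, commutator_mem_commutator (mem_top s.z) (mem_top s.z')⟩

/-- `c₀ = [u, u'] ψ(h)⁻¹` -/
def c0 : G := s.u * s.u' * s.u⁻¹ * s.u'⁻¹ * (s.ψ s.h)⁻¹

/-- `C = C_G(t)` -/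
abbrev C : Subgroup G := Subgroup.centralizer {s.t}

/-- `M` -/
abbrev M : Subgroup G := s.ψ.range

/-- `Q = C_C(M)` -/
abbrev Q : Subgroup G := Subgroup.centralizer {s.t} ⊓ Subgroup.centralizer (s.ψ.range : Set G)

theorem even_c0 : Even (orderOf s.c0) := s.ev

end Cfg

/-! ### Facts on `Ω(U)` -/

/-- the facts on `O(U)` and `Ω(U)` used by the group theory -/
structure OmF {F : Type} [Field F] {n : ℕ} (c : Fin n → F) : Prop where
  qs : IsQuasisimple (Om c)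
  /-- `C_{O(U)}(Ω(U)) = {1, -1}` -/
  cen : ∀ g : OO c, (∀ m ∈ Omega F (dq c), g * m = m * g) → g = 1 ∨ g = negI c
  idx : (Omega F (dq c)).index = 4
  mul_self : ∀ g : OO c, g * g ∈ Omega F (dq c)
  det1 : ∀ g ∈ Omega F (dq c), (mx g).det = 1
  neg_mem : negI c ∈ Omega F (dq c) ↔ Even n ∧ IsSquare (∏ i, c i)
  /-- an elementary abelian subgroup of order 16 -/
  e16 : ∃ A : Subgroup (Om c), Nat.card ↥A = 16 ∧ ∀ a ∈ A, a * a = 1

def POmF : Prop := ∀ {F : Type} [Field F] [Fintype F] {n : ℕ} (c : Fin n → F), Odd (Fintype.card F) →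
  (∀ i, c i ≠ 0) → 8 ≤ n → OmF c

/-! ### The structure of `Q` (config lemma) -/

/-- type I: `n` odd -/
structure QI {F : Type} [Field F] {n : ℕ} {c : Fin n → F} {G : Type} [Group G] (s : Cfg c G) (y : G) : Prop where
  yQ : y ∈ s.Q
  y1 : y ≠ 1
  yy : y * y = 1
  yc : y * s.c0 * y⁻¹ = s.c0⁻¹
  yn : y ∉ zpowers s.c0
  /-- `y` and `y c₀` are conjugate under `C` (so all `y c₀ ^ j` are) -/
  ycj : ∃ v, v * s.t = s.t * v ∧ v * y * v⁻¹ = y * s.c0 ∧ v * s.c0 * v⁻¹ = s.c0⁻¹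
  idx : Odd ((zpowers s.c0 ⊔ zpowers y).relIndex s.Q)

structure QF {F : Type} [Field F] {n : ℕ} {c : Fin n → F} {G : Type} [Group G] (s : Cfg c G) : Prop where
  c0Q : s.c0 ∈ s.Q
  uc : s.u * s.c0 * s.u⁻¹ = s.c0⁻¹
  uc' : s.u' * s.c0 * s.u'⁻¹ = s.c0⁻¹
  /-- `t = ψ(m) [u,u'] ^ j` -/
  tcomm : ∃ (m : Om c) (j : ℕ), s.t = s.ψ m * (s.u * s.u' * s.u⁻¹ * s.u'⁻¹) ^ j
  /-- every element of `O(U)` is induced by an element of `M ⟨u, u'⟩` -/
  ind : ∀ g : OO c, ∃ x ∈ s.M ⊔ closure {s.u, s.u'}, ∀ m, x * s.ψ m * x⁻¹ = s.ψ (cj g m)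
  /-- `n` odd, or disc not a square -/
  tI : negI c ∉ Omega F (dq c) → ∃ j : ℕ, s.t = s.c0 ^ j
  I : Odd n → ∃ y, QI s y
  II : Even n → negI c ∉ Omega F (dq c) → ∃ b ∈ s.Q, b * b = s.c0 ∧ Odd ((zpowers b).relIndex s.Q)
  III : ∀ hz : negI c ∈ Omega F (dq c),
    (∃ i j : ℕ, s.t = s.ψ ⟨negI c, hz⟩ ^ i * s.c0 ^ j) ∧
      Odd ((zpowers (s.ψ ⟨negI c, hz⟩) ⊔ zpowers s.c0).relIndex s.Q)

/-- **Piece 2**, the config lemma. -/
def PQF : Prop := ∀ {F : Type} [Field F] {n : ℕ} (c : Fin n → F), OmF c → (2 : F) ≠ 0 →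
  ∀ {G : Type} [Group G] [Finite G] (s : Cfg c G), QF s

end Cfsg.Agent.H323.OI
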