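import Mathlib

/-!
# S3325: group theory for the geometric part (helper323)
-/

set_option autoImplicit false

namespace Cfsg.Agent.H323.OI

open Subgroup

/-- two homomorphisms of a perfect group which agree modulo the centre are equal -/
theorem hom_eq_of_center {P X : Type*} [Group P] [Group X] (hP : Group.IsPerfect P) (f g : P →* X)
    (h : ∀ x, f x * (g x)⁻¹ ∈ center X) : f = g := by
  let k : P →* center X :=
    { toFun := fun x => ⟨f x * (g x)⁻¹, h x⟩
      map_one' := Subtype.ext (by simp)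
      map_mul' := fun x y => Subtype.ext (by
        have h1 := (mem_center_iff.1 (h y)) (f x)
        show f (x * y) * (g (x * y))⁻¹ = (f x * (g x)⁻¹) * (f y * (g y)⁻¹)
        have h2 := (mem_center_iff.1 (h y)) ((g x)⁻¹)
        rw [map_mul, map_mul, mul_inv_rev]
        calc f x * f y * ((g y)⁻¹ * (g x)⁻¹) = f x * ((f y * (g y)⁻¹) * (g x)⁻¹) := by group
          _ = f x * ((g x)⁻¹ * (f y * (g y)⁻¹)) := by rw [← h2]
          _ = _ := by group) }
  have hk : ∀ x, k x = 1 := by
    intro x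
    have hx : x ∈ commutator P := by
      rw [hP.commutator_eq_top]
      trivial
    have h1 : commutator P ≤ k.ker := by
      rw [commutator_def, commutator_le]
      intro a _ b _
      rw [MonoidHom.mem_ker, map_commutatorElement, commutatorElement_eq_one_iff_mul_comm]
      apply Subtype.ext
      exact (mem_center_iff.1 (k b).2 _)
    exact h1 hx
  ext x
  have h1 := congrArg Subtype.val (hk x)
  change f x * (g x)⁻¹ = 1 at h1
  exact mul_inv_eq_one.1 h1

/-- in a cyclic group there is at most one involution -/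
theorem cyc_unique {T : Type*} [Group T] [Finite T] [IsCyclic T] {a b : T} (ha : a * a = 1) (hb : b * b = 1)
    (ha1 : a ≠ 1) (hb1 : b ≠ 1) : a = b := by
  classical
  have := Fintype.ofFinite T
  by_contra hab
  have h1 := IsCyclic.card_pow_eq_one_le (α := T) (n := 2) (by norm_num)
  have h2 : ({1, a, b} : Finset T) ⊆ Finset.univ.filter fun x : T => x ^ 2 = 1 := by
    intro x hx
    simp only [Finset.mem_insert, Finset.mem_singleton] at hx
    rw [Finset.mem_filter]
    refine ⟨Finset.mem_univ _, ?_⟩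
    rcases hx with rfl | rfl | rfl
    · exact one_pow 2
    · rw [pow_two, ha]
    · rw [pow_two, hb]
  have h3 := Finset.card_le_card h2
  have h4 : ({1, a, b} : Finset T).card = 3 := by
    rw [Finset.card_insert_of_notMem, Finset.card_insert_of_notMem, Finset.card_singleton]
    · simpa using hab
    · simp only [Finset.mem_insert, Finset.mem_singleton, not_or]
      exact ⟨fun h => ha1 h.symm, fun h => hb1 h.symm⟩
  rw [h4] at h3
  exact absurd (le_trans h3 h1) (by norm_num)

/-- a Sylow 2-subgroup contained in a conjugate of a cyclic subgroup of odd index is cyclic -/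
theorem exists_cyclic_sylow {R : Type*} [Group R] [Finite R] (c : R) (h : Odd (zpowers c).index) :
    ∃ T : Sylow 2 R, IsCyclic ↥(T : Subgroup R) := by
  have : Fact (Nat.Prime 2) := ⟨Nat.prime_two⟩
  obtain ⟨T₀⟩ : Nonempty (Sylow 2 ↥(zpowers c)) := inferInstance
  have hp : IsPGroup 2 ↥((T₀ : Subgroup ↥(zpowers c)).map (zpowers c).subtype) := T₀.2.map _
  have hcard : Nat.card ↥((T₀ : Subgroup ↥(zpowers c)).map (zpowers c).subtype) =
      Nat.card ↥(T₀ : Subgroup ↥(zpowers c)) :=
    Nat.card_congr ((T₀ : Subgroup ↥(zpowers c)).equivMapOfInjective _ (zpowers c).subtype_injective).symm.toEquiv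
  have h1 : Nat.card ↥(T₀ : Subgroup ↥(zpowers c)) = 2 ^ (Nat.card ↥(zpowers c)).factorization 2 := T₀.card_eq_multiplicity
  have h2 : (Nat.card R).factorization 2 = (Nat.card ↥(zpowers c)).factorization 2 := by
    rw [← (zpowers c).index_mul_card, Nat.factorization_mul (index_ne_zero_of_finite) Nat.card_pos.ne']
    rw [Finsupp.add_apply, Nat.factorization_eq_zero_of_not_dvd, zero_add]
    exact fun hd => (Nat.not_even_iff_odd.2 h) (even_iff_two_dvd.2 hd)
  refine ⟨Sylow.ofCard ((T₀ : Subgroup ↥(zpowers c)).map (zpowers c).subtype) ?_, ?_⟩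
  · rw [hcard, h1, h2]
  · show IsCyclic ↥((T₀ : Subgroup ↥(zpowers c)).map (zpowers c).subtype)
    have : IsCyclic ↥(zpowers c) := inferInstance
    have h3 : IsCyclic ↥(T₀ : Subgroup ↥(zpowers c)) := inferInstance
    exact isCyclic_of_surjective _
      ((T₀ : Subgroup ↥(zpowers c)).equivMapOfInjective _ (zpowers c).subtype_injective).surjective

/-- a finite group with an element generating a subgroup of odd index maps to a cyclic group with odd kernel -/
theorem exists_hom_cyclic {R : Type*} [Group R] [Finite R] (c : R) (h : Odd (zpowers c).index) :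
    ∃ (T : Subgroup R) (f : R →* T), IsCyclic T ∧ Odd (Nat.card ↥f.ker) := by
  have : Fact (Nat.Prime 2) := ⟨Nat.prime_two⟩
  obtain ⟨T, hT⟩ := exists_cyclic_sylow c h
  by_cases h1 : 2 ∣ Nat.card R
  · have hmin : (Nat.card R).minFac = 2 := (Nat.minFac_eq_two_iff _).2 h1
    have hle := hT.normalizer_le_centralizer hmin
    refine ⟨T, MonoidHom.transferSylow T hle, hT, ?_⟩
    exact Nat.not_even_iff_odd.1 fun h => MonoidHom.not_dvd_card_ker_transferSylow T hle (even_iff_two_dvd.1 h)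
  · refine ⟨T, 1, hT, ?_⟩
    apply Nat.not_even_iff_odd.1
    intro h2
    apply h1
    exact (even_iff_two_dvd.1 h2).trans (Subgroup.card_subgroup_dvd_card _)

theorem eq_one_of_odd {R : Type*} [Group R] [Finite R] {H : Subgroup R} (h : Odd (Nat.card ↥H)) {x : R} (hx : x ∈ H)
    (hxx : x * x = 1) : x = 1 := by
  have h1 : orderOf x ∣ Nat.card ↥H := by
    rw [← orderOf_mk x hx]
    exact orderOf_dvd_natCard _
  have h2 : orderOf x ∣ 2 := orderOf_dvd_of_pow_eq_one (by rw [pow_two, hxx])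
  rcases (Nat.dvd_prime Nat.prime_two).1 h2 with h3 | h3
  · exact orderOf_eq_one_iff.1 h3
  · rw [h3] at h1
    exact absurd (even_iff_two_dvd.2 h1) (Nat.not_even_iff_odd.2 h)

/-- **Lemma A.** -/
theorem odd_of_comm {X : Type*} [Group X] [Finite X] (R : Subgroup X) (hR : R.Normal) (c u u' : X) (hc : c ∈ R)
    (hi : Odd ((zpowers c).relIndex R)) (hu : u ∈ R) (huu : u * u = 1) (he : u * u' * u⁻¹ * u'⁻¹ = c) :
    Odd (Nat.card ↥R) := by
  have hi' : Odd (zpowers (⟨c, hc⟩ : R)).index := by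
    have h1 : (zpowers (⟨c, hc⟩ : R)) = (zpowers c).subgroupOf R := by
      ext ⟨x, hx⟩
      rw [mem_subgroupOf]
      constructor
      · rintro ⟨k, hk⟩
        exact ⟨k, congrArg Subtype.val hk⟩
      · rintro ⟨k, hk⟩
        exact ⟨k, Subtype.ext hk⟩
    rw [h1]
    exact hi
  obtain ⟨T, f, hT, hf⟩ := exists_hom_cyclic (⟨c, hc⟩ : R) hi'
  have hv : u' * u * u'⁻¹ ∈ R := hR.conj_mem u hu u'
  have hvv : (⟨u' * u * u'⁻¹, hv⟩ : R) * ⟨u' * u * u'⁻¹, hv⟩ = 1 := by
    apply Subtype.ext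
    show u' * u * u'⁻¹ * (u' * u * u'⁻¹) = 1
    calc u' * u * u'⁻¹ * (u' * u * u'⁻¹) = u' * (u * u) * u'⁻¹ := by group
      _ = 1 := by rw [huu]; group
  have huu' : (⟨u, hu⟩ : R) * ⟨u, hu⟩ = 1 := Subtype.ext huu
  have key : f ⟨u, hu⟩ = f ⟨u' * u * u'⁻¹, hv⟩ := by
    by_cases h1 : f ⟨u, hu⟩ = 1
    · have h2 : (⟨u, hu⟩ : R) = 1 := eq_one_of_odd hf (MonoidHom.mem_ker.2 h1) huu'
      have h3 : u = 1 := congrArg Subtype.val h2
      have h4 : (⟨u' * u * u'⁻¹, hv⟩ : R) = 1 := Subtype.ext (by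
        show u' * u * u'⁻¹ = 1
        rw [h3]; group)
      rw [h2, h4]
    · by_cases h2 : f ⟨u' * u * u'⁻¹, hv⟩ = 1
      · exfalso
        have h3 : (⟨u' * u * u'⁻¹, hv⟩ : R) = 1 := eq_one_of_odd hf (MonoidHom.mem_ker.2 h2) hvv
        have h4 : u' * u * u'⁻¹ = 1 := congrArg Subtype.val h3
        have h5 : u = 1 := by
          calc u = u'⁻¹ * (u' * u * u'⁻¹) * u' := by group
            _ = 1 := by rw [h4]; group
        apply h1
        have h6 : (⟨u, hu⟩ : R) = 1 := Subtype.ext h5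
        rw [h6, map_one]
      · exact cyc_unique (by rw [← map_mul, huu', map_one]) (by rw [← map_mul, hvv, map_one]) h1 h2
  have hc1 : f ⟨c, hc⟩ = 1 := by
    have h1 : (⟨c, hc⟩ : R) = ⟨u, hu⟩ * (⟨u' * u * u'⁻¹, hv⟩ : R)⁻¹ := by
      apply Subtype.ext
      show c = u * (u' * u * u'⁻¹)⁻¹
      rw [← he]
      group
    rw [h1, map_mul, map_inv, ← key, mul_inv_cancel]
  have hodd : Odd (orderOf c) := by
    have h1 : orderOf (⟨c, hc⟩ : R) ∣ Nat.card ↥f.ker := by
      rw [← orderOf_mk (⟨c, hc⟩ : R) (MonoidHom.mem_ker.2 hc1)]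
      exact orderOf_dvd_natCard _
    rw [orderOf_mk] at h1
    exact Odd.of_dvd_nat hf h1
  have h2 : Nat.card ↥R = Nat.card ↥(zpowers c) * (zpowers c).relIndex R := by
    have h3 : zpowers c ≤ R := by rwa [zpowers_le]
    rw [Nat.mul_comm, relIndex, ← Nat.card_congr (subgroupOfEquivOfLe h3).toEquiv, index_mul_card]
  rw [h2, Nat.card_zpowers]
  exact hodd.mul hi

theorem relIndex_map_dvd {X Y : Type*} [Group X] [Group Y] (f : X →* Y) (A R : Subgroup X) :
    (A.map f).relIndex (R.map f) ∣ A.relIndex R := by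
  have h1 := index_map_dvd (A.subgroupOf R) (f := f.subgroupMap R) (f.subgroupMap_surjective R)
  refine dvd_trans ?_ h1
  refine index_dvd_of_le ?_
  rintro _ ⟨x, hx, rfl⟩
  exact mem_subgroupOf.2 (mem_map_of_mem f (mem_subgroupOf.1 hx))

/-- **Lemma B.** -/
theorem odd_relIndex_of_comm {X : Type*} [Group X] [Finite X] (N R : Subgroup X) (hN : N.Normal) (hR : R.Normal)
    (c ζ u u' : X) (hc : c ∈ R) (hζ : ζ ∈ N) (hi : Odd ((zpowers ζ ⊔ zpowers c).relIndex R)) (hu : u ∈ N ⊔ R)
    (huu : u * u = 1) (he : u * u' * u⁻¹ * u'⁻¹ * c⁻¹ ∈ N) : Odd (N.relIndex R) := by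
  have h1 : Nat.card ↥(R.map (QuotientGroup.mk' N)) = N.relIndex R := by
    have h2 := relIndex_map_map (QuotientGroup.mk' N) ⊥ R
    rw [Subgroup.map_bot, relIndex_bot_left, QuotientGroup.ker_mk', bot_sup_eq, relIndex_sup_right] at h2
    exact h2
  rw [← h1]
  have hmul : ∀ x, x ∈ N → (QuotientGroup.mk' N) x = 1 := fun x hx => by
    rw [← MonoidHom.mem_ker, QuotientGroup.ker_mk']
    exact hx
  refine odd_of_comm (R.map (QuotientGroup.mk' N)) (hR.map _ (QuotientGroup.mk'_surjective N))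
    (QuotientGroup.mk' N c) (QuotientGroup.mk' N u) (QuotientGroup.mk' N u') (mem_map_of_mem _ hc) ?_ ?_ ?_ ?_
  · have h3 : zpowers (QuotientGroup.mk' N c) = (zpowers ζ ⊔ zpowers c).map (QuotientGroup.mk' N) := by
      rw [Subgroup.map_sup, MonoidHom.map_zpowers, MonoidHom.map_zpowers, hmul ζ hζ, zpowers_one_eq_bot, bot_sup_eq]
    rw [h3]
    exact Odd.of_dvd_nat hi (relIndex_map_dvd _ _ _)
  · have h3 : (QuotientGroup.mk' N) u ∈ (N ⊔ R).map (QuotientGroup.mk' N) := mem_map_of_mem _ hu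
    rw [Subgroup.map_sup] at h3
    have h4 : N.map (QuotientGroup.mk' N) = ⊥ := by
      rw [Subgroup.map_eq_bot_iff, QuotientGroup.ker_mk']
    rwa [h4, bot_sup_eq] at h3
  · rw [← map_mul, huu, map_one]
  · have h3 := hmul _ he
    rw [map_mul, map_inv] at h3
    rw [← map_mul, ← map_inv, ← map_mul, ← map_inv, ← map_mul]
    exact mul_inv_eq_one.1 h3

end Cfsg.Agent.H323.OI
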