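import Mathlib
import Cfsg.Agent.H323.OI.Pieces

/-!
# S3325: the pieces, II (helper323)
-/

set_option autoImplicit false

namespace Cfsg.Agent.H323.OI

open Cfsg Subgroup Matrix QuadraticMap
open Cfsg.Agent.H183

/-- the chart in `G`: `K = ρ.range` is a component of `G`, a central quotient of `Ω(U ⊥ P)`, `t` acts as `1 ⊥ -1` -/
structure GChart {F : Type} [Field F] {n b : ℕ} {c : Fin n → F} {G : Type} [Group G] (s : Cfg c G) (d : Fin b → F)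
    (ρ : OmV c d →* G) : Prop where
  b1 : 0 < b
  dne : ∀ i, d i ≠ 0
  d3 : ∀ i j : Fin b, i.val < 3 → j.val < 3 → 3 ≤ b → d i = d j
  ker : ρ.ker ≤ center (OmV c d)
  res : ∀ m, ρ (inU c d m) = s.ψ m
  tw : ∀ x, s.t * ρ x * s.t⁻¹ = ρ (cj (tau c d) x)
  nrm : ∀ g, g * s.t = s.t * g → ∀ x, g * ρ x * g⁻¹ ∈ ρ.range
  comp : IsComponent ρ.range
  comm : ρ.range = ⁅ρ.range, zpowers s.t⁆

/-- all the rows -/
structure Rows : Prop where
  alt : PAlt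
  spor : PSpor
  two : PTwo
  psl : PPsl
  psu : PPsu
  psp : PPsp
  exc : PExc
  twe : PTwE
  ree : PRee
  orth : POrth

/-- **Piece 15** (row data from `K`, classification S0000, rows, cover lemma). -/
def PRow : Prop := Rows → PCover → ∀ {F : Type} [Field F] [Fintype F] {n : ℕ} (c : Fin n → F), OmF c → Sp c →
  ∀ {G : Type} [Group G] [Finite G] (s : Cfg c G), QF s → oddCore G = ⊥ →
  ∀ K : Subgroup G, IsComponent K → s.M < K → K = ⁅K, zpowers s.t⁆ →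
  ∃ (b : ℕ) (d : Fin b → F) (ρ : OmV c d →* G), GChart s d ρ ∧ ρ.range = K

/-- conclusion (c) of S3325 -/
def ConclC {F : Type} [Field F] {n : ℕ} (c : Fin n → F) (G : Type) [Group G] : Prop :=
  ∃ G₀ : Subgroup G, G₀.Normal ∧
    (∃ c' : Fin (n + 2) → F, (∀ i, c' i ≠ 0) ∧ (IsSquare (∏ i, c' i) ↔ IsSquare (∏ i, c i)) ∧
      (Nonempty (↥G₀ ≃* POmega F (dq c')) ∨ Nonempty (↥G₀ ≃* ↥(Omega F (dq c'))))) ∧
    ∃ W : Subgroup G, IsCyclic ↥W ∧ Odd (Nat.card ↥W) ∧ W ⊓ G₀ = ⊥ ∧ W ⊔ G₀ = ⊤ ∧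
      W ⊓ Subgroup.centralizer (G₀ : Set G) = ⊥

/-- **Piece 16** (the end of case (c)). -/
def PEnd : Prop := PWitt → PComp → ∀ {F : Type} [Field F] [Fintype F] {n : ℕ} (c : Fin n → F), Sp c →
  ∀ {G : Type} [Group G] [Finite G] (s : Cfg c G) (d : Fin 2 → F) (ρ : OmV c d →* G), GChart s d ρ →
  IsSquare (∏ i, d i) → s.Q ≤ ρ.range → Odd ((ρ.range ⊓ s.C).relIndex s.C) → ConclC c G

/-- **Piece 17** (`O(G) = 1`). -/
def POne : Prop := ∀ {G : Type} [Group G] [Finite G] (t : G), t * t = 1 → centralizer {t} ⊓ oddCore G = ⊥ →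
  ∀ K : Subgroup (G ⧸ oddCore G), K = ⁅K, zpowers (QuotientGroup.mk t)⁆ → (QuotientGroup.mk t : G ⧸ oddCore G) ∈ K →
  oddCore G = ⊥

/-- the statement S3325 in `Type` -/
def PMain0 : Prop := ∀ {F : Type} [Field F] [Fintype F] {n : ℕ} (c : Fin n → F), Sp c →
  ∀ {G : Type} [Group G] [Finite G] (s : Cfg c G),
  ((Fintype.card F % 4 = 1 → 2 * Nat.card ↥s.Q < 3 * (Fintype.card F - 1) ∨
      Nat.card ↥s.Q / 2 ^ ((Nat.card ↥s.Q).factorization 2) <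
        3 * ((Fintype.card F - 1) / 2 ^ ((Fintype.card F - 1).factorization 2))) ∧
    (Fintype.card F % 4 = 3 → 2 * Nat.card ↥s.Q < 3 * (Fintype.card F + 1) ∨
      Nat.card ↥s.Q / 2 ^ ((Nat.card ↥s.Q).factorization 2) <
        3 * ((Fintype.card F + 1) / 2 ^ ((Fintype.card F + 1).factorization 2)))) →
  (centralizer {s.t} ⊔ oddCore G = ⊤) ∨
  (Odd n ∧ s.M.Normal ∧ ∃ G₁ G₂ : Subgroup G, G₁.Normal ∧ G₂.Normal ∧ s.M ≤ G₁ ∧ G₁ ≤ G₂ ∧
    Odd (s.M.relIndex G₁) ∧ Odd G₂.index ∧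
    ∃ (K : Type) (_ : Field K) (_ : Fintype K), Odd (Fintype.card K) ∧
      ∃ f : ↥G₂ →* (GL (Fin 2) K ⧸ Subgroup.center (GL (Fin 2) K)),
        Function.Surjective f ∧ f.ker = G₁.subgroupOf G₂) ∨
  ConclC c G

end Cfsg.Agent.H323.OI
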