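import Mathlib
import Cfsg.Agent.H323.OI.Base
import Cfsg.Agent.ClassicalGeometry.OmegaIndex

/-!
# S3325: facts on `V = U ⊥ P` (helper323)
-/

set_option autoImplicit false

namespace Cfsg.Agent.H323.OI

open Cfsg Subgroup Matrix QuadraticMap
open Cfsg.Agent.H183
open Cfsg.Agent.LieClassical.OrthCore Cfsg.Agent.LieClassical.OrthTrans
open Cfsg.Agent.ClassicalGeometry.Reflection Cfsg.Agent.ClassicalGeometry.SpinorSign

section general

variable {F : Type} [Field F] {ι κ : Type} [Fintype ι] [DecidableEq ι] [Fintype κ] [DecidableEq κ]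

/-- the function `f` is a nondegenerate quadratic form -/
def NF (f : (ι → F) → F) : Prop := ∃ Q : QuadraticForm F (ι → F), ⇑Q = f ∧ Nondeg Q

theorem nondeg_dqF {n : ℕ} (h2 : (2 : F) ≠ 0) {c : Fin n → F} (hc : ∀ i, c i ≠ 0) : Nondeg (dqF c) := by
  intro x hx
  funext i
  have h1 := hx (Pi.single i 1)
  have h3 : polar (⇑(dqF c)) x (Pi.single i 1) = 2 * c i * x i := by
    have h4 : ∀ v : Fin n → F, dqF c v = ∑ j, c j * v j ^ 2 := fun v => congrFun (coe_dqF c) v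
    rw [QuadraticMap.polar, h4, h4, h4, ← Finset.sum_sub_distrib, ← Finset.sum_sub_distrib,
      Finset.sum_eq_single i]
    · simp only [Pi.add_apply, Pi.single_eq_same]
      ring
    · intro j _ hj
      simp only [Pi.add_apply, Pi.single_eq_of_ne hj]
      ring
    · intro h
      exact absurd (Finset.mem_univ i) h
  rw [h3] at h1
  have h5 := mul_ne_zero h2 (hc i)
  exact (mul_eq_zero.1 h1).resolve_left h5

theorem nf_dq {n : ℕ} (h2 : (2 : F) ≠ 0) {c : Fin n → F} (hc : ∀ i, c i ≠ 0) : NF (dq c) :=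
  ⟨dqF c, coe_dqF c, nondeg_dqF h2 hc⟩

theorem nondegenerate_of {Q : QuadraticForm F (ι → F)} (h : Nondeg Q) : (polarBilin Q).Nondegenerate :=
  ⟨fun x hx => h x hx, fun x hx => h x fun y => by rw [polar_comm]; exact hx y⟩

theorem nondeg_sum {Q₁ : QuadraticForm F (ι → F)} {Q₂ : QuadraticForm F (κ → F)} (h₁ : Nondeg Q₁)
    (h₂ : Nondeg Q₂) : Nondeg (sumForm Q₁ Q₂) :=
  nondeg_of_nondegenerate (sumForm_nondegenerate Q₁ Q₂ (nondegenerate_of h₁) (nondegenerate_of h₂))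

theorem nf_sum {f : (ι → F) → F} {g : (κ → F) → F} (hf : NF f) (hg : NF g) : NF (sumFun f g) := by
  obtain ⟨Q₁, rfl, h₁⟩ := hf
  obtain ⟨Q₂, rfl, h₂⟩ := hg
  exact ⟨sumForm Q₁ Q₂, rfl, nondeg_sum h₁ h₂⟩

theorem nf_sqf {n b : ℕ} (h2 : (2 : F) ≠ 0) {c : Fin n → F} (hc : ∀ i, c i ≠ 0) {d : Fin b → F} (hd : ∀ i, d i ≠ 0) :
    NF (sqf c d) := nf_sum (nf_dq h2 hc) (nf_dq h2 hd)

theorem perfect_nf [Finite F] {f : (ι → F) → F} (hf : NF f) (h5 : 5 ≤ Fintype.card ι) :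
    Group.IsPerfect ↥(Omega F f) := by
  obtain ⟨Q, rfl, h⟩ := hf
  exact perfect_Omega (good_of h h5)

theorem quasi_nf [Finite F] {f : (ι → F) → F} (hf : NF f) (h5 : 5 ≤ Fintype.card ι) :
    IsQuasisimple ↥(Omega F f) := by
  obtain ⟨Q, rfl, h⟩ := hf
  exact quasi_Omega (good_of h h5)

theorem pm_nf [Finite F] {f : (ι → F) → F} (hf : NF f) (h5 : 5 ≤ Fintype.card ι) (A : ↥(isometryGroup F f))
    (h : ∀ x ∈ Omega F f, A * x = x * A) : A = 1 ∨ mx A = -1 := by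
  obtain ⟨Q, rfl, hQ⟩ := hf
  exact pm_of_comm (good_of hQ h5) A h

/-- the spinor sign -/
noncomputable abbrev sp [Finite F] {f : (ι → F) → F} : ↥(isometryGroup F f) →* ℤˣ := spinorSign f (1 : F)

theorem mem_Om_iff [Finite F] (h2 : (2 : F) ≠ 0) {f : (ι → F) → F} (hf : NF f) (hn : 2 ≤ Fintype.card ι)
    (A : ↥(isometryGroup F f)) : A ∈ Omega F f ↔ (mx A).det = 1 ∧ sp A = 1 := by
  obtain ⟨Q, rfl, hQ⟩ := hf
  exact Cfsg.Agent.ClassicalGeometry.OmegaIndex.mem_Omega_iff h2 Q (nondegenerate_of hQ) hn one_ne_zero A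

theorem det_cases (h2 : (2 : F) ≠ 0) {f : (ι → F) → F} (hf : NF f) (A : ↥(isometryGroup F f)) :
    (mx A).det = 1 ∨ (mx A).det = -1 := by
  obtain ⟨Q, rfl, hQ⟩ := hf
  refine Cfsg.Agent.ClassicalGeometry.CartanDieudonne.isometry_induction h2 Q (nondegenerate_of hQ)
    (fun A => (mx A).det = 1 ∨ (mx A).det = -1) (Or.inl Matrix.det_one) ?_ A
  intro v hv g hg
  have h1 : (mx (reflIso Q v hv * g)).det = -(mx g).det := by
    show (((reflIso Q v hv * g : Cfsg.isometryGroup F (⇑Q)) :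
      Matrix.GeneralLinearGroup ι F) : Matrix ι ι F).det = _
    rw [Subgroup.coe_mul, Units.val_mul, Matrix.det_mul, det_reflIso, neg_one_mul]
  rw [h1]
  rcases hg with h | h <;> rw [h]
  · exact Or.inr rfl
  · exact Or.inl (neg_neg 1)

/-- reflections -/
theorem exists_refl_nf [Finite F] (h2 : (2 : F) ≠ 0) {f : (ι → F) → F} (hf : NF f) (v : ι → F) (hv : f v ≠ 0)
    [Decidable (IsSquare (f v))] :
    ∃ A : ↥(isometryGroup F f), A * A = 1 ∧ (mx A).det = -1 ∧ sp A = if IsSquare (f v) then -1 else 1 := by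
  obtain ⟨Q, rfl, hQ⟩ := hf
  refine ⟨reflIso Q v hv, reflIso_mul_self Q v hv, det_reflIso Q v hv, ?_⟩
  classical
  have h1 := spinorSign_reflIso h2 Q one_ne_zero v hv
  simp only [one_mul] at h1
  refine h1.trans ?_
  congr

theorem sp_blk_left [Finite F] (h2 : (2 : F) ≠ 0) {f : (ι → F) → F} {g : (κ → F) → F} (hf : NF f) (hg : NF g)
    (A : ↥(isometryGroup F f)) : sp (blk f g (A, 1)) = sp A := by
  obtain ⟨Q₁, rfl, h₁⟩ := hf
  obtain ⟨Q₂, rfl, h₂⟩ := hg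
  exact spinorSign_blk_one Q₁ Q₂ h2 (nondegenerate_of h₁) one_ne_zero A

theorem sp_blk_right [Finite F] (h2 : (2 : F) ≠ 0) {f : (ι → F) → F} {g : (κ → F) → F} (hf : NF f) (hg : NF g)
    (A : ↥(isometryGroup F g)) : sp (blk f g (1, A)) = sp A := by
  classical
  obtain ⟨Q₁, rfl, h₁⟩ := hf
  obtain ⟨Q₂, rfl, h₂⟩ := hg
  refine Cfsg.Agent.ClassicalGeometry.CartanDieudonne.isometry_induction h2 Q₂ (nondegenerate_of h₂)
    (fun A => spinorSign (⇑(sumForm Q₁ Q₂)) 1 (blk (⇑Q₁) (⇑Q₂) (1, A)) = spinorSign (⇑Q₂) 1 A) ?_ ?_ A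
  · change spinorSign (⇑(sumForm Q₁ Q₂)) 1 (blk (⇑Q₁) (⇑Q₂) 1) = _
    rw [map_one, map_one]
    exact map_one _
  · intro v hv g hg
    have hv' : sumForm Q₁ Q₂ (Sum.elim 0 v) ≠ 0 := by rw [sumForm_elim_right]; exact hv
    have e : ((1, reflIso Q₂ v hv * g) : Cfsg.isometryGroup F (⇑Q₁) × Cfsg.isometryGroup F (⇑Q₂)) =
      (1, reflIso Q₂ v hv) * (1, g) := by simp
    rw [e, map_mul, blk_one_refl Q₁ Q₂ v hv hv', map_mul]
    have e2 := map_mul (spinorSign (⇑(sumForm Q₁ Q₂)) 1) (reflIso (sumForm Q₁ Q₂) (Sum.elim 0 v) hv')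
      (blk (⇑Q₁) (⇑Q₂) (1, g))
    refine e2.trans ?_
    rw [hg, spinorSign_reflIso h2 (sumForm Q₁ Q₂) one_ne_zero, spinorSign_reflIso h2 Q₂ one_ne_zero,
      sumForm_elim_right]

theorem blk_split {f : (ι → F) → F} {g : (κ → F) → F} (A : ↥(isometryGroup F f)) (B : ↥(isometryGroup F g)) :
    blk f g (A, B) = blk f g (A, 1) * blk f g (1, B) := by
  rw [← map_mul]
  simp

theorem sp_blk [Finite F] (h2 : (2 : F) ≠ 0) {f : (ι → F) → F} {g : (κ → F) → F} (hf : NF f) (hg : NF g)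
    (A : ↥(isometryGroup F f)) (B : ↥(isometryGroup F g)) : sp (blk f g (A, B)) = sp A * sp B := by
  rw [blk_split, map_mul, sp_blk_left h2 hf hg, sp_blk_right h2 hf hg]

theorem det_blk' {f : (ι → F) → F} {g : (κ → F) → F} (A : ↥(isometryGroup F f)) (B : ↥(isometryGroup F g)) :
    (mx (blk f g (A, B))).det = (mx A).det * (mx B).det := by
  show (Matrix.fromBlocks _ 0 0 _).det = _
  rw [Matrix.det_fromBlocks_zero₂₁]
  rfl

theorem blk_inj {f : (ι → F) → F} {g : (κ → F) → F} {A A' : ↥(isometryGroup F f)} {B B' : ↥(isometryGroup F g)}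
    (h : blk f g (A, B) = blk f g (A', B')) : A = A' ∧ B = B' := by
  have h1 : mx (blk f g (A, B)) = mx (blk f g (A', B')) := by rw [h]
  change Matrix.fromBlocks _ 0 0 _ = Matrix.fromBlocks _ 0 0 _ at h1
  rw [Matrix.fromBlocks_inj] at h1
  exact ⟨Subtype.ext (Units.ext h1.1), Subtype.ext (Units.ext h1.2.2.2)⟩

end general

end Cfsg.Agent.H323.OI
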