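import Mathlib
import Cfsg.Agent.H323.OI.Gp

/-!
# S3325: group theory for the geometric part, II (helper323)
-/

set_option autoImplicit false

namespace Cfsg.Agent.H323.OI

open Subgroup

theorem relIndex_dvd_two {X : Type*} [Group X] (A : Subgroup X) (y : X) (hy : ∀ a ∈ A, y * a * y⁻¹ ∈ A)
    (hy' : ∀ a ∈ A, y⁻¹ * a * y ∈ A) (hyy : y * y ∈ A) : A.relIndex (A ⊔ zpowers y) ∣ 2 := by
  by_cases h1 : y ∈ A
  · have h2 : zpowers y ≤ A := by rwa [zpowers_le]
    rw [sup_eq_left.2 h2, relIndex_self]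
    exact one_dvd 2
  · have h2 : A.relIndex (A ⊔ zpowers y) = 2 := by
      rw [relIndex_eq_two_iff]
      let K : Subgroup X :=
        { carrier := {b | b ∈ A ∨ b * y ∈ A}
          one_mem' := Or.inl (one_mem A)
          mul_mem' := by
            rintro a b (ha | ha) (hb | hb)
            · exact Or.inl (mul_mem ha hb)
            · refine Or.inr ?_
              rw [mul_assoc]
              exact mul_mem ha hb
            · refine Or.inr ?_
              have : a * b * y = (a * y) * (y⁻¹ * b * y) := by group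
              rw [this]
              exact mul_mem ha (hy' b hb)
            · refine Or.inl ?_
              have : a * b = (a * y) * (y⁻¹ * (b * y) * y) * (y * y)⁻¹ := by group
              rw [this]
              exact mul_mem (mul_mem ha (hy' _ hb)) (inv_mem hyy)
          inv_mem' := by
            rintro a (ha | ha)
            · exact Or.inl (inv_mem ha)
            · refine Or.inr ?_
              have : a⁻¹ * y = (y * (a * y)⁻¹ * y⁻¹) * (y * y) := by group
              rw [this]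
              exact mul_mem (hy _ (inv_mem ha)) hyy }
      have hK : A ⊔ zpowers y ≤ K := by
        rw [sup_le_iff]
        exact ⟨fun a ha => Or.inl ha, by rw [zpowers_le]; exact Or.inr hyy⟩
      refine ⟨y, mem_sup_right (mem_zpowers y), fun b hb => ?_⟩
      rcases hK hb with h | h
      · refine Or.inr ⟨h, fun h3 => h1 ?_⟩
        have : y = b⁻¹ * (b * y) := by group
        rw [this]
        exact mul_mem (inv_mem h) h3
      · refine Or.inl ⟨h, fun h3 => h1 ?_⟩
        have : y = b⁻¹ * (b * y) := by group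
        rw [this]
        exact mul_mem (inv_mem h3) h
    rw [h2]

theorem card_sq_le {T : Type*} [Group T] [Finite T] [IsCyclic T] : Nat.card {x : T // x * x = 1} ≤ 2 := by
  classical
  have := Fintype.ofFinite T
  have h1 := IsCyclic.card_pow_eq_one_le (α := T) (n := 2) (by norm_num)
  rw [Nat.card_eq_fintype_card, Fintype.card_subtype]
  refine le_trans (Finset.card_le_card ?_) h1
  intro x hx
  rw [Finset.mem_filter] at hx ⊢
  exact ⟨Finset.mem_univ _, by rw [pow_two]; exact hx.2⟩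

/-- no `E₈` in a group with a cyclic subgroup of index not divisible by four -/
theorem no_e8 {R : Type*} [Group R] [Finite R] (a : R) (h4 : ¬ 4 ∣ (zpowers a).index) (E : Subgroup R)
    (hE : Nat.card ↥E = 8) (hE1 : ∀ e ∈ E, e * e = 1) : False := by
  classical
  have := Fintype.ofFinite R
  have := Fintype.ofFinite (R ⧸ zpowers a)
  have := Fintype.ofFinite ↥E
  have hst : ∀ x : R ⧸ zpowers a, Nat.card ↥(MulAction.stabilizer ↥E x) ≤ 2 := by
    intro x
    induction x using QuotientGroup.induction_on with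
    | H g =>
      refine le_trans (Nat.card_le_card_of_injective (β := {y : ↥(zpowers a) // y * y = 1}) (fun e => ?_) ?_)
        card_sq_le
      · have he : g⁻¹ * (e.1.1 : R) * g ∈ zpowers a := by
          have h1 : (e.1 • (g : R ⧸ zpowers a)) = (g : R ⧸ zpowers a) := e.2
          have h2 : ((e.1.1 * g : R) : R ⧸ zpowers a) = (g : R ⧸ zpowers a) := h1
          have h3 := QuotientGroup.eq.1 h2.symm
          rwa [← mul_assoc] at h3
        refine ⟨⟨g⁻¹ * (e.1.1 : R) * g, he⟩, Subtype.ext ?_⟩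
        show g⁻¹ * (e.1.1 : R) * g * (g⁻¹ * (e.1.1 : R) * g) = 1
        have h5 := hE1 e.1.1 e.1.2
        calc g⁻¹ * (e.1.1 : R) * g * (g⁻¹ * (e.1.1 : R) * g) = g⁻¹ * (e.1.1 * e.1.1) * g := by group
          _ = 1 := by rw [h5]; group
      · intro e e' h
        have h1 : g⁻¹ * (e.1.1 : R) * g = g⁻¹ * (e'.1.1 : R) * g := congrArg (fun z => (z.1.1 : R)) h
        have h2 : (e.1.1 : R) = e'.1.1 := by
          have := congrArg (fun z => g * z * g⁻¹) h1
          simpa [mul_assoc] using this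
        exact Subtype.ext (Subtype.ext h2)
  apply h4
  have hX : Nat.card (R ⧸ zpowers a) = (zpowers a).index := rfl
  rw [← hX, Nat.card_eq_fintype_card]
  have := Fintype.ofFinite (Quotient (MulAction.orbitRel ↥E (R ⧸ zpowers a)))
  have hsum := MulAction.card_eq_sum_card_group_div_card_stabilizer ↥E (R ⧸ zpowers a)
  rw [hsum]
  refine Finset.dvd_sum fun ω _ => ?_
  have h8 : Fintype.card ↥E = 8 := by rw [← Nat.card_eq_fintype_card, hE]
  rw [h8]
  have h1 := hst ω.out
  rw [Nat.card_eq_fintype_card] at h1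
  have h2 : 0 < Fintype.card ↥(MulAction.stabilizer ↥E ω.out) := Fintype.card_pos
  interval_cases h3 : Fintype.card ↥(MulAction.stabilizer ↥E ω.out)
  · norm_num
  · norm_num

theorem no_e8' {X : Type*} [Group X] [Finite X] (R : Subgroup X) (a : X) (ha : a ∈ R)
    (h4 : ¬ 4 ∣ (zpowers a).relIndex R) (E : Subgroup X) (hER : E ≤ R) (hE : Nat.card ↥E = 8)
    (hE1 : ∀ e ∈ E, e * e = 1) : False := by
  refine no_e8 (⟨a, ha⟩ : R) ?_ (E.subgroupOf R) ?_ ?_
  · have h1 : (zpowers (⟨a, ha⟩ : R)) = (zpowers a).subgroupOf R := by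
      ext ⟨x, hx⟩
      rw [mem_subgroupOf]
      constructor
      · rintro ⟨k, hk⟩
        exact ⟨k, congrArg Subtype.val hk⟩
      · rintro ⟨k, hk⟩
        exact ⟨k, Subtype.ext hk⟩
    rw [h1]
    exact h4
  · rw [Nat.card_congr (subgroupOfEquivOfLe hER).toEquiv, hE]
  · intro e he
    exact Subtype.ext (hE1 _ (mem_subgroupOf.1 he))

theorem card_eq_mul_relIndex {X : Type*} [Group X] [Finite X] {A R : Subgroup X} (h : A ≤ R) :
    Nat.card ↥R = Nat.card ↥A * A.relIndex R := by
  rw [Nat.mul_comm, relIndex, ← Nat.card_congr (subgroupOfEquivOfLe h).toEquiv, index_mul_card]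

end Cfsg.Agent.H323.OI

namespace Cfsg.Agent.H323.OI

open Subgroup

theorem mem_sup_zpowers {X : Type*} [Group X] (A : Subgroup X) (y : X) (hy : ∀ a ∈ A, y * a * y⁻¹ ∈ A)
    (hy' : ∀ a ∈ A, y⁻¹ * a * y ∈ A) (hyy : y * y ∈ A) {b : X} (hb : b ∈ A ⊔ zpowers y) : b ∈ A ∨ b * y ∈ A := by
  let K : Subgroup X :=
    { carrier := {b | b ∈ A ∨ b * y ∈ A}
      one_mem' := Or.inl (one_mem A)
      mul_mem' := by
        rintro a b (ha | ha) (hb | hb)
        · exact Or.inl (mul_mem ha hb)
        · refine Or.inr ?_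
          rw [mul_assoc]
          exact mul_mem ha hb
        · refine Or.inr ?_
          have : a * b * y = (a * y) * (y⁻¹ * b * y) := by group
          rw [this]
          exact mul_mem ha (hy' b hb)
        · refine Or.inl ?_
          have : a * b = (a * y) * (y⁻¹ * (b * y) * y) * (y * y)⁻¹ := by group
          rw [this]
          exact mul_mem (mul_mem ha (hy' _ hb)) (inv_mem hyy)
      inv_mem' := by
        rintro a (ha | ha)
        · exact Or.inl (inv_mem ha)
        · refine Or.inr ?_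
          have : a⁻¹ * y = (y * (a * y)⁻¹ * y⁻¹) * (y * y) := by group
          rw [this]
          exact mul_mem (hy _ (inv_mem ha)) hyy }
  have hK : A ⊔ zpowers y ≤ K := by
    rw [sup_le_iff]
    exact ⟨fun a ha => Or.inl ha, by rw [zpowers_le]; exact Or.inr hyy⟩
  exact hK hb

theorem relIndex_eq_two {X : Type*} [Group X] (A : Subgroup X) (y : X) (hy : ∀ a ∈ A, y * a * y⁻¹ ∈ A)
    (hy' : ∀ a ∈ A, y⁻¹ * a * y ∈ A) (hyy : y * y ∈ A) (hyA : y ∉ A) : A.relIndex (A ⊔ zpowers y) = 2 := by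
  rcases (Nat.dvd_prime Nat.prime_two).1 (relIndex_dvd_two A y hy hy' hyy) with h | h
  · exfalso
    rw [relIndex_eq_one] at h
    exact hyA (h (mem_sup_right (mem_zpowers y)))
  · exact h

/-- doubling an elementary abelian 2-group -/
theorem double {X : Type*} [Group X] [Finite X] (A : Subgroup X) (y : X) (hA : ∀ a ∈ A, a * a = 1)
    (hc : ∀ a ∈ A, y * a = a * y) (hyy : y * y = 1) (hyA : y ∉ A) :
    Nat.card ↥(A ⊔ zpowers y) = 2 * Nat.card ↥A ∧ (∀ b ∈ A ⊔ zpowers y, b * b = 1) ∧
      ∀ z, (∀ a ∈ A, z * a = a * z) → z * y = y * z → ∀ b ∈ A ⊔ zpowers y, z * b = b * z := by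
  have h1 : ∀ a ∈ A, y * a * y⁻¹ ∈ A := fun a ha => by
    rw [hc a ha, mul_inv_cancel_right]
    exact ha
  have h2 : ∀ a ∈ A, y⁻¹ * a * y ∈ A := fun a ha => by
    rw [mul_assoc, ← hc a ha, inv_mul_cancel_left]
    exact ha
  have h3 : y * y ∈ A := by rw [hyy]; exact one_mem A
  have hmem := fun b => mem_sup_zpowers A y h1 h2 h3 (b := b)
  refine ⟨?_, ?_, ?_⟩
  · rw [card_eq_mul_relIndex (le_sup_left (a := A) (b := zpowers y)), relIndex_eq_two A y h1 h2 h3 hyA, Nat.mul_comm]
  · intro b hb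
    rcases hmem b hb with h | h
    · exact hA b h
    · have h4 := hA _ h
      have h5 := hc _ h
      have h6 : b = (b * y) * y := by rw [mul_assoc, hyy, mul_one]
      rw [h6]
      calc (b * y) * y * ((b * y) * y) = (b * y) * (y * (b * y)) * y := by group
        _ = (b * y) * ((b * y) * y) * y := by rw [h5]
        _ = ((b * y) * (b * y)) * (y * y) := by group
        _ = 1 := by rw [h4, hyy, one_mul]
  · intro z hz hzy b hb
    rcases hmem b hb with h | h
    · exact hz b h
    · have h4 := hz _ h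
      have h6 : b = (b * y) * y := by rw [mul_assoc, hyy, mul_one]
      calc z * b = (z * (b * y)) * y := by rw [mul_assoc z, ← h6]
        _ = (b * y) * (z * y) := by rw [h4, mul_assoc]
        _ = ((b * y) * y) * z := by rw [hzy, ← mul_assoc]
        _ = b * z := by rw [← h6]

/-- an `E₈` from three commuting involutions -/
theorem exists_e8 {X : Type*} [Group X] [Finite X] (R : Subgroup X) {x y z : X} (hxR : x ∈ R) (hyR : y ∈ R)
    (hzR : z ∈ R) (hx : x * x = 1) (hy : y * y = 1) (hz : z * z = 1) (hxy : y * x = x * y) (hzx : z * x = x * z)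
    (hzy : z * y = y * z) (x1 : x ≠ 1) (y1 : y ≠ 1) (yx : y ≠ x) (z1 : z ≠ 1) (zx : z ≠ x) (zy : z ≠ y)
    (zxy : z ≠ x * y) : ∃ E : Subgroup X, E ≤ R ∧ Nat.card ↥E = 8 ∧ ∀ e ∈ E, e * e = 1 := by
  have hz0 : ∀ a ∈ zpowers x, a = 1 ∨ a = x := by
    rintro a ⟨k, rfl⟩
    show x ^ k = 1 ∨ x ^ k = x
    rcases Int.even_or_odd k with ⟨l, rfl⟩ | ⟨l, rfl⟩
    · left
      rw [← two_mul, zpow_mul, zpow_two, hx, one_zpow]
    · right
      rw [zpow_add, zpow_mul, zpow_two, hx, one_zpow, one_mul, zpow_one]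
  have hx2 : Nat.card ↥(zpowers x) = 2 := by
    rw [Nat.card_zpowers]
    exact orderOf_eq_prime (by rw [pow_two, hx]) x1
  have hA : ∀ a ∈ zpowers x, a * a = 1 := by
    intro a ha
    rcases hz0 a ha with rfl | rfl
    · exact one_mul 1
    · exact hx
  have hc : ∀ a ∈ zpowers x, y * a = a * y := by
    intro a ha
    rcases hz0 a ha with rfl | rfl
    · rw [mul_one, one_mul]
    · exact hxy
  have hyA : y ∉ zpowers x := by
    intro h
    rcases hz0 y h with h | h
    · exact y1 h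
    · exact yx h
  obtain ⟨h1, h2, h3⟩ := double (zpowers x) y hA hc hy hyA
  have hcz : ∀ a ∈ zpowers x ⊔ zpowers y, z * a = a * z := by
    refine h3 z ?_ hzy
    intro a ha
    rcases hz0 a ha with rfl | rfl
    · rw [mul_one, one_mul]
    · exact hzx
  have hzA : z ∉ zpowers x ⊔ zpowers y := by
    intro h
    have h4 := mem_sup_zpowers (zpowers x) y (fun a ha => by rw [hc a ha, mul_inv_cancel_right]; exact ha)
      (fun a ha => by rw [mul_assoc, ← hc a ha, inv_mul_cancel_left]; exact ha) (by rw [hy]; exact one_mem _) h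
    rcases h4 with h4 | h4
    · rcases hz0 z h4 with h | h
      · exact z1 h
      · exact zx h
    · rcases hz0 _ h4 with h | h
      · apply zy
        calc z = z * y * y := by rw [mul_assoc, hy, mul_one]
          _ = y := by rw [h, one_mul]
      · apply zxy
        calc z = z * y * y := by rw [mul_assoc, hy, mul_one]
          _ = x * y := by rw [h]
  obtain ⟨h5, h6, -⟩ := double (zpowers x ⊔ zpowers y) z h2 hcz hz hzA
  refine ⟨zpowers x ⊔ zpowers y ⊔ zpowers z, ?_, ?_, h6⟩
  · simp only [sup_le_iff, zpowers_le]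
    exact ⟨⟨hxR, hyR⟩, hzR⟩
  · rw [h5, h1, hx2]

/-- Lemma B for subgroups -/
theorem odd_relIndex_in {G : Type*} [Group G] [Finite G] (C N R : Subgroup G) (hNC : N ≤ C) (hRC : R ≤ C)
    (hN : ∀ g ∈ C, ∀ x ∈ N, g * x * g⁻¹ ∈ N) (hR : ∀ g ∈ C, ∀ x ∈ R, g * x * g⁻¹ ∈ R)
    (c ζ u u' : G) (hc : c ∈ R) (hζ : ζ ∈ N) (hζR : ζ ∈ R) (hi : Odd ((zpowers ζ ⊔ zpowers c).relIndex R))
    (huC : u ∈ C) (hu' : u' ∈ C)
    (hu : u ∈ N ⊔ R) (huu : u * u = 1) (he : u * u' * u⁻¹ * u'⁻¹ * c⁻¹ ∈ N) : Odd (N.relIndex R) := by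
  have hN' : (N.subgroupOf C).Normal := ⟨fun x hx g => hN g.1 g.2 x.1 hx⟩
  have hR' : (R.subgroupOf C).Normal := ⟨fun x hx g => hR g.1 g.2 x.1 hx⟩
  have hle : zpowers ζ ⊔ zpowers c ≤ R := by
    rw [sup_le_iff, zpowers_le, zpowers_le]
    exact ⟨hζR, hc⟩
  have h1 := odd_relIndex_of_comm (N.subgroupOf C) (R.subgroupOf C) hN' hR' ⟨c, hRC hc⟩ ⟨ζ, hNC hζ⟩ ⟨u, huC⟩ ⟨u', hu'⟩
    hc hζ ?_ ?_ (Subtype.ext huu) he
  · rwa [relIndex_subgroupOf hRC] at h1
  · have h2 : (zpowers (⟨ζ, hNC hζ⟩ : C) ⊔ zpowers (⟨c, hRC hc⟩ : C)).map C.subtype = zpowers ζ ⊔ zpowers c := by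
      rw [Subgroup.map_sup, MonoidHom.map_zpowers, MonoidHom.map_zpowers]
      rfl
    have h3 : (zpowers (⟨ζ, hNC hζ⟩ : C) ⊔ zpowers (⟨c, hRC hc⟩ : C)) = (zpowers ζ ⊔ zpowers c).subgroupOf C := by
      rw [← h2]
      exact (comap_map_eq_self_of_injective C.subtype_injective _).symm
    rw [h3, relIndex_subgroupOf hRC]
    exact hi
  · have h2 : (N.subgroupOf C ⊔ R.subgroupOf C).map C.subtype = N ⊔ R := by
      rw [Subgroup.map_sup, map_subgroupOf_eq_of_le hNC, map_subgroupOf_eq_of_le hRC]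
    have h3 : (N.subgroupOf C ⊔ R.subgroupOf C) = (N ⊔ R).subgroupOf C := by
      rw [← h2]
      exact (comap_map_eq_self_of_injective C.subtype_injective _).symm
    rw [h3]
    exact hu

theorem pow_relIndex_mem {G : Type*} [Group G] (N R : Subgroup G) (hN : ∀ g ∈ R, ∀ x ∈ N, g * x * g⁻¹ ∈ N) {x : G}
    (hx : x ∈ R) : x ^ N.relIndex R ∈ N := by
  have h1 : (N.subgroupOf R).Normal := ⟨fun y hy g => hN g.1 g.2 y.1 hy⟩
  exact pow_index_mem (N.subgroupOf R) (⟨x, hx⟩ : R)

end Cfsg.Agent.H323.OI
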