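import Mathlib
import Cfsg.Agent.H323.OI.Pieces2
import Cfsg.Agent.H323.OI.VF
import Cfsg.Agent.H323.OI.Gp2

/-!
# S3325: elements acting on `K = ρ(Ω(V))` as isometries (helper323)
-/

set_option autoImplicit false

namespace Cfsg.Agent.H323.OI

open Cfsg Subgroup Matrix QuadraticMap
open Cfsg.Agent.H183

section act

variable {F : Type} [Field F] {n b : ℕ} {c : Fin n → F} {d : Fin b → F} {G : Type} [Group G]
  {ρ : OmV c d →* G}

/-- `g` acts on `ρ.range` as the isometry `A` -/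
def Act (ρ : OmV c d →* G) (g : G) (A : OOV c d) : Prop := ∀ x, g * ρ x * g⁻¹ = ρ (cj A x)

theorem cj_mul (A B : OOV c d) (x : OmV c d) : cj (A * B) x = cj A (cj B x) := by
  rw [cj, cj, cj, map_mul]
  rfl

theorem cj_one (x : OmV c d) : cj (1 : OOV c d) x = x := by
  rw [cj, map_one]
  rfl

theorem Act.mul {g h : G} {A B : OOV c d} (hg : Act ρ g A) (hh : Act ρ h B) : Act ρ (g * h) (A * B) := by
  intro x
  rw [cj_mul, ← hg, ← hh]
  group

theorem Act.one : Act ρ 1 1 := by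
  intro x
  rw [cj_one]
  group

theorem Act.inv {g : G} {A : OOV c d} (hg : Act ρ g A) : Act ρ g⁻¹ A⁻¹ := by
  intro x
  have h1 := hg (cj A⁻¹ x)
  rw [← cj_mul, mul_inv_cancel, cj_one] at h1
  rw [← h1]
  group

theorem Act.pow {g : G} {A : OOV c d} (hg : Act ρ g A) (k : ℕ) : Act ρ (g ^ k) (A ^ k) := by
  induction k with
  | zero => simpa using Act.one
  | succ k ih => rw [pow_succ, pow_succ]; exact ih.mul hg

theorem act_rho (x : OmV c d) : Act ρ (ρ x) x.1 := by
  intro y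
  rw [← map_inv, ← map_mul, ← map_mul]
  congr 1

variable [Finite F]

theorem act_unique (h2 : (2 : F) ≠ 0) (hc : ∀ i, c i ≠ 0) (hd : ∀ i, d i ≠ 0) (hn : 5 ≤ n + b)
    (hker : ρ.ker ≤ center (OmV c d)) {g : G} {A B : OOV c d} (hA : Act ρ g A) (hB : Act ρ g B) :
    A = B ∨ A = negV c d * B := by
  have hnf := nf_sqf h2 hc hd
  have h5 : 5 ≤ Fintype.card (Fin n ⊕ Fin b) := by simpa using hn
  have h1 : (cj A : OmV c d ≃* OmV c d).toMonoidHom = (cj B : OmV c d ≃* OmV c d).toMonoidHom := by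
    apply hom_eq_of_center (perfect_nf hnf h5)
    intro x
    apply hker
    rw [MonoidHom.mem_ker, map_mul, map_inv]
    show ρ (cj A x) * (ρ (cj B x))⁻¹ = 1
    rw [← hA, ← hB, mul_inv_cancel]
  have h3 : B⁻¹ * A = 1 ∨ mx (B⁻¹ * A) = -1 := by
    apply pm_nf hnf h5
    intro x hx
    have h4 : cj A ⟨x, hx⟩ = cj B ⟨x, hx⟩ := DFunLike.congr_fun h1 ⟨x, hx⟩
    have h6 : A * x * A⁻¹ = B * x * B⁻¹ := congrArg Subtype.val h4
    calc B⁻¹ * A * x = B⁻¹ * (A * x * A⁻¹) * A := by group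
      _ = B⁻¹ * (B * x * B⁻¹) * A := by rw [h6]
      _ = x * (B⁻¹ * A) := by group
  rcases h3 with h | h
  · left
    exact (inv_mul_eq_one.1 h).symm
  · right
    have h4 : B⁻¹ * A = negV c d := by
      apply ext_iso
      intro v
      rw [h]
      rfl
    have h5 : negV c d * B = B * negV c d := by
      apply Subtype.ext
      apply Units.ext
      show (-1 : Matrix _ _ F) * mx B = mx B * (-1 : Matrix _ _ F)
      rw [neg_one_mul, mul_neg_one]
    rw [h5, ← h4]
    group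

end act

section neg

variable {F : Type} [Field F] {n b : ℕ} (c : Fin n → F) (d : Fin b → F)

theorem negV_eq : negV c d = bb c d (negI c) (negI d) := by
  apply ext_iso
  intro v
  show (-1 : Matrix _ _ F) *ᵥ v = (Matrix.fromBlocks (-1) 0 0 (-1)) *ᵥ v
  congr 1
  rw [← Matrix.fromBlocks_one, Matrix.fromBlocks_neg, neg_zero, neg_zero]

theorem negI_mul_self : negI c * negI c = 1 := by
  apply Subtype.ext
  apply Units.ext
  show (-1 : Matrix _ _ F) * (-1) = 1
  rw [neg_one_mul, neg_neg]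

theorem negI_ne (h2 : (2 : F) ≠ 0) (hn : 0 < n) : negI c ≠ 1 := by
  intro h
  have h1 : mx (negI c) = 1 := by rw [h]; rfl
  have h3 := congrFun (congrFun h1 ⟨0, hn⟩) ⟨0, hn⟩
  rw [negI, mx_negQ, Matrix.neg_apply, Matrix.one_apply_eq] at h3
  apply h2
  linear_combination -h3

theorem bb_mul (g g' : OO c) (s s' : OO d) : bb c d g s * bb c d g' s' = bb c d (g * g') (s * s') := by
  rw [bb, bb, bb, ← map_mul, Prod.mk_mul_mk]

theorem bb_inv (g : OO c) (s : OO d) : (bb c d g s)⁻¹ = bb c d g⁻¹ s⁻¹ := by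
  rw [bb, bb, ← map_inv, Prod.inv_mk]

theorem bb_one : bb c d 1 1 = 1 := map_one _

theorem bb_pow (s : OO d) (k : ℕ) : bb c d 1 s ^ k = bb c d 1 (s ^ k) := by
  rw [bb, bb, ← map_pow, Prod.pow_mk, one_pow]

theorem bb_inj {g g' : OO c} {s s' : OO d} (h : bb c d g s = bb c d g' s') : g = g' ∧ s = s' := blk_inj h

theorem cj_coe {ι : Type} [Fintype ι] [DecidableEq ι] {Q : (ι → F) → F} (A : ↥(isometryGroup F Q))
    (x : ↥(Omega F Q)) : ((cj A x : ↥(Omega F Q)) : ↥(isometryGroup F Q)) = A * x.1 * A⁻¹ := rfl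

end neg

end Cfsg.Agent.H323.OI
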