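import Mathlib
import Cfsg.Agent.H323.OI.Act

/-!
# S3325: geometry, basic part (helper323)
-/

set_option autoImplicit false

namespace Cfsg.Agent.H323.OI

open Cfsg Subgroup Matrix QuadraticMap
open Cfsg.Agent.H183

theorem Sp.two_ne {F : Type} [Field F] [Fintype F] {n : ℕ} {c : Fin n → F} (h : Sp c) : (2 : F) ≠ 0 := by
  intro h2
  have h3 : ringChar F = 2 := by
    have h4 : ringChar F ∣ 2 := (ringChar.spec F 2).1 (by exact_mod_cast h2)
    exact (Nat.prime_dvd_prime_iff_eq (CharP.char_is_prime F (ringChar F)) Nat.prime_two).1 h4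
  have h5 := FiniteField.even_card_of_char_two (F := F) h3
  rw [Nat.odd_iff.1 h.odd] at h5
  exact absurd h5 (by norm_num)

theorem Sp.n8 {F : Type} [Field F] [Fintype F] {n : ℕ} {c : Fin n → F} (h : Sp c) : 8 ≤ n := by
  have h1 := Nat.odd_iff.1 h.odd
  have h2 : Fintype.card F % 4 = 1 ∨ Fintype.card F % 4 = 3 := by omega
  rcases h2 with h2 | h2
  · rcases h.h6.1 h2 with h3 | h3
    · omega
    · omega
  · rcases h.h6.2 h2 with h3 | h3 | h3
    · omega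
    · omega
    · omega

section

variable {F : Type} [Field F] [Fintype F] {n b : ℕ} {c : Fin n → F} {d : Fin b → F} {G : Type} [Group G]
  {s : Cfg c G} {ρ : OmV c d →* G}

theorem tau_ne (h2 : (2 : F) ≠ 0) (hb : 0 < b) : tau c d ≠ 1 := by
  intro h
  rw [tau, ← bb_one] at h
  exact negI_ne d h2 hb (bb_inj c d h).2

/-- conjugation by `1 ⊥ -1` fixes `g ⊥ s` -/
theorem tau_comm (g : OO c) (r : OO d) : tau c d * bb c d g r * (tau c d)⁻¹ = bb c d g r := by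
  rw [tau, bb_mul, bb_inv, bb_mul]
  congr 2
  · group
  · have h1 : negI d * r = r * negI d := by
      apply Subtype.ext
      apply Units.ext
      show (-1 : Matrix _ _ F) * mx r = mx r * (-1 : Matrix _ _ F)
      rw [neg_one_mul, mul_neg_one]
    rw [h1]
    group

variable (hS : Sp c) (hch : GChart s d ρ)

include hS hch

theorem uniq {g : G} {A B : OOV c d} (hA : Act ρ g A) (hB : Act ρ g B) : A = B ∨ A = negV c d * B :=
  act_unique hS.two_ne hS.ne hch.dne (by have := hS.n8; omega) hch.ker hA hB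

theorem act_t : Act ρ s.t (tau c d) := hch.tw

theorem uniq1 {g : G} {r r' : OO d} (hA : Act ρ g (bb c d 1 r)) (hB : Act ρ g (bb c d 1 r')) : r = r' := by
  rcases uniq hS hch hA hB with h | h
  · exact (bb_inj c d h).2
  · exfalso
    rw [negV_eq, bb_mul, mul_one] at h
    exact negI_ne c hS.two_ne (by have := hS.n8; omega) (bb_inj c d h).1.symm

/-- an element of `C_G(t)` acting on `M` as `w` acts on `K` as `w ⊥ r` -/
theorem exists_act (hE : PExtU) {g : G} (hg : g * s.t = s.t * g) {w : OO c}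
    (hw : ∀ m, g * s.ψ m * g⁻¹ = s.ψ (cj w m)) : ∃ r : OO d, Act ρ g (bb c d w r) := by
  refine hE c d hS hch.b1 hch.dne ρ hch.ker g (hch.nrm g hg) w ?_
  intro m
  rw [hch.res, hch.res, hw]

theorem sq_one {g : G} {w : OO c} {r : OO d} (hg : g * g = 1) (hw : w * w = 1) (h : Act ρ g (bb c d w r)) :
    r * r = 1 := by
  have h1 := h.mul h
  rw [hg, bb_mul, hw] at h1
  have h3 : Act ρ (1 : G) (bb c d 1 1) := by rw [bb_one]; exact Act.one
  exact uniq1 hS hch h1 h3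

theorem act_psi (m : Om c) : Act ρ (s.ψ m) (bb c d m.1 1) := by
  rw [← hch.res]
  exact act_rho _

/-- the action of `u`, `u'` and `c₀` -/
theorem exists_r (hE : PExtU) : ∃ r r' : OO d, Act ρ s.u (bb c d s.z r) ∧ Act ρ s.u' (bb c d s.z' r') ∧ r * r = 1 ∧
    r' * r' = 1 ∧ Act ρ s.c0 (bb c d 1 (r * r' * r⁻¹ * r'⁻¹)) := by
  obtain ⟨r, hr⟩ := exists_act hS hch hE s.ut s.uψ
  obtain ⟨r', hr'⟩ := exists_act hS hch hE s.ut' s.uψ'
  refine ⟨r, r', hr, hr', sq_one hS hch s.uu s.zz hr, sq_one hS hch s.uu' s.zz' hr', ?_⟩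
  have h1 := (((hr.mul hr').mul hr.inv).mul hr'.inv).mul (act_psi hS hch s.h).inv
  have h2 : bb c d s.z r * bb c d s.z' r' * (bb c d s.z r)⁻¹ * (bb c d s.z' r')⁻¹ * (bb c d s.h.1 1)⁻¹ =
      bb c d 1 (r * r' * r⁻¹ * r'⁻¹) := by
    rw [bb_inv, bb_inv, bb_inv, bb_mul, bb_mul, bb_mul, bb_mul]
    have e1 : s.z * s.z' * s.z⁻¹ * s.z'⁻¹ * (s.h.1)⁻¹ = 1 := mul_inv_cancel _
    rw [e1, inv_one, mul_one]
  rw [h2] at h1
  exact h1

/-- `ρ(w ⊥ r)` centralizes `t` -/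
theorem rho_comm {x : OmV c d} {w : OO c} {r : OO d} (hx : x.1 = bb c d w r) : ρ x * s.t = s.t * ρ x := by
  have h1 : cj (tau c d) x = x := by
    apply Subtype.ext
    rw [cj_coe, hx]
    exact tau_comm w r
  have h2 := hch.tw x
  rw [h1] at h2
  calc ρ x * s.t = s.t * ρ x * s.t⁻¹ * s.t := by rw [h2]
    _ = s.t * ρ x := by group

/-- the action of `ρ(w ⊥ r)` on `M` -/
theorem rho_psi {x : OmV c d} {w : OO c} {r : OO d} (hx : x.1 = bb c d w r) (m : Om c) :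
    ρ x * s.ψ m * (ρ x)⁻¹ = s.ψ (cj w m) := by
  rw [← hch.res, ← hch.res, ← map_inv, ← map_mul, ← map_mul]
  congr 1
  apply Subtype.ext
  show x.1 * (inU c d m).1 * x.1⁻¹ = (inU c d (cj w m)).1
  rw [hx, coe_inU, coe_inU, bb_inv, bb_mul, bb_mul, cj_coe]
  congr 2
  group

/-- if `w ⊥ r ∈ Ω(V)` for some `r` then an element of `C_G(t)` acting as `w` lies in `C_K(t) Q` -/
theorem mem_NQ {x : OmV c d} {w : OO c} {r : OO d} (hx : x.1 = bb c d w r) {g : G} (hg : g * s.t = s.t * g)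
    (hw : ∀ m, g * s.ψ m * g⁻¹ = s.ψ (cj w m)) : g ∈ (ρ.range ⊓ s.C) ⊔ s.Q := by
  have hxt := rho_comm hS hch hx
  have h1 : ρ x ∈ ρ.range ⊓ s.C := ⟨⟨x, rfl⟩, mem_centralizer_singleton_iff.2 hxt⟩
  have h2 : (ρ x)⁻¹ * g ∈ s.Q := by
    refine mem_inf.2 ⟨?_, ?_⟩
    · exact mul_mem (inv_mem (mem_centralizer_singleton_iff.2 hxt)) (mem_centralizer_singleton_iff.2 hg)
    · rw [mem_centralizer_iff]
      rintro _ ⟨m, rfl⟩
      have h3 := rho_psi hS hch hx m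
      have h4 := hw m
      have h5 : (ρ x)⁻¹ * g * s.ψ m * ((ρ x)⁻¹ * g)⁻¹ = s.ψ m := by
        calc (ρ x)⁻¹ * g * s.ψ m * ((ρ x)⁻¹ * g)⁻¹ = (ρ x)⁻¹ * (g * s.ψ m * g⁻¹) * ρ x := by group
          _ = (ρ x)⁻¹ * (ρ x * s.ψ m * (ρ x)⁻¹) * ρ x := by rw [h4, h3]
          _ = s.ψ m := by group
      exact (mul_inv_eq_iff_eq_mul.1 h5).symm
  have h3 : g = ρ x * ((ρ x)⁻¹ * g) := by group
  rw [h3]
  exact mul_mem_sup h1 h2

theorem M_le : s.M ≤ ρ.range ⊓ s.C := by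
  rintro _ ⟨m, rfl⟩
  refine ⟨⟨inU c d m, hch.res m⟩, mem_centralizer_singleton_iff.2 ?_⟩
  exact (s.fix m).symm

theorem N_conj {g : G} (hg : g ∈ s.C) {x : G} (hx : x ∈ ρ.range ⊓ s.C) : g * x * g⁻¹ ∈ ρ.range ⊓ s.C := by
  obtain ⟨⟨y, rfl⟩, hx2⟩ := hx
  exact mem_inf.2 ⟨hch.nrm g (mem_centralizer_singleton_iff.1 hg) y, mul_mem (mul_mem hg hx2) (inv_mem hg)⟩

omit [Fintype F] hS hch in
theorem Q_conj {g : G} (hg : g ∈ s.C) {x : G} (hx : x ∈ s.Q) : g * x * g⁻¹ ∈ s.Q := by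
  refine mem_inf.2 ⟨mul_mem (mul_mem hg (mem_inf.1 hx).1) (inv_mem hg), ?_⟩
  rw [mem_centralizer_iff]
  rintro _ ⟨m, rfl⟩
  have hg' : g⁻¹ * s.t = s.t * g⁻¹ := mem_centralizer_singleton_iff.1 (inv_mem hg)
  obtain ⟨m', hm'⟩ := s.nrm g⁻¹ hg' m
  rw [inv_inv] at hm'
  have h1 := (mem_centralizer_iff.1 hx.2) (s.ψ m') ⟨m', rfl⟩
  have h2 : s.ψ m = g * s.ψ m' * g⁻¹ := by rw [hm']; group
  rw [h2]
  calc g * s.ψ m' * g⁻¹ * (g * x * g⁻¹) = g * (s.ψ m' * x) * g⁻¹ := by group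
    _ = g * (x * s.ψ m') * g⁻¹ := by rw [h1]
    _ = g * x * g⁻¹ * (g * s.ψ m' * g⁻¹) := by group

end

end Cfsg.Agent.H323.OI
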