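import Mathlib
import Cfsg.Agent.H323.OI.GeoA

/-!
# S3325: geometry, `Ω(P)` of odd order is impossible (helper323)
-/

set_option autoImplicit false

namespace Cfsg.Agent.H323.OI

open Cfsg Subgroup Matrix QuadraticMap
open Cfsg.Agent.H183

theorem units_sq (a : ℤˣ) : a * a = 1 := Int.units_mul_self a

section

variable {F : Type} [Field F] [Fintype F] {n b : ℕ} {c : Fin n → F} {d : Fin b → F} {G : Type} [Group G]
  {s : Cfg c G} {ρ : OmV c d →* G}

theorem mx_mul {ι : Type} [Fintype ι] [DecidableEq ι] {Q : (ι → F) → F} (A B : ↥(isometryGroup F Q)) :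
    mx (A * B) = mx A * mx B := rfl

theorem det_inv_of {ι : Type} [Fintype ι] [DecidableEq ι] {Q : (ι → F) → F} (A : ↥(isometryGroup F Q))
    (h : (mx A).det = -1) : (mx A⁻¹).det = -1 := by
  have h1 : (mx A).det * (mx A⁻¹).det = 1 := by
    rw [← Matrix.det_mul, ← mx_mul, mul_inv_cancel]
    exact Matrix.det_one
  rw [h] at h1
  linear_combination -h1

theorem exists_det_neg (hS : Sp c) (hb : 0 < b) (hd : ∀ i, d i ≠ 0) : ∃ r : OO d, (mx r).det = -1 := by
  classical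
  have h1 : dq d (Pi.single ⟨0, hb⟩ 1) ≠ 0 := by
    have : dq d (Pi.single ⟨0, hb⟩ 1) = d ⟨0, hb⟩ := by
      show ∑ i, d i * (Pi.single (⟨0, hb⟩ : Fin b) (1 : F) : Fin b → F) i ^ 2 = _
      rw [Finset.sum_eq_single ⟨0, hb⟩]
      · rw [Pi.single_eq_same]; ring
      · intro j _ hj
        rw [Pi.single_eq_of_ne hj]; ring
      · intro h
        exact absurd (Finset.mem_univ _) h
    rw [this]
    exact hd _
  obtain ⟨A, -, hA, -⟩ := exists_refl_nf hS.two_ne (nf_dq hS.two_ne hd) _ h1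
  exact ⟨A, hA⟩

theorem sp_ne (hS : Sp c) (s : Cfg c G) : sp s.z' = - sp s.z := by
  have h1 : ¬ ((mx (s.z⁻¹ * s.z')).det = 1 ∧ sp (s.z⁻¹ * s.z') = 1) := fun h =>
    s.cos ((mem_Om_iff hS.two_ne (nf_dq hS.two_ne hS.ne) (by rw [Fintype.card_fin]; have := hS.n8; omega) _).2 h)
  have h2 : (mx (s.z⁻¹ * s.z')).det = 1 := by
    rw [mx_mul, Matrix.det_mul, det_inv_of _ s.dz, s.dz']
    ring
  have h3 : sp (s.z⁻¹ * s.z') ≠ 1 := fun h => h1 ⟨h2, h⟩
  rw [map_mul, map_inv] at h3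
  rcases Int.units_eq_one_or (sp s.z) with h | h <;> rcases Int.units_eq_one_or (sp s.z') with h' | h'
  · rw [h, h'] at h3; exact absurd (by simp) h3
  · rw [h, h']
  · rw [h, h', neg_neg]
  · rw [h, h'] at h3; exact absurd (by simp) h3

/-- membership in `Ω(V)` -/
theorem bb_mem (hS : Sp c) (hb : 0 < b) (hd : ∀ i, d i ≠ 0) (w : OO c) (r : OO d)
    (h1 : (mx w).det * (mx r).det = 1) (h2 : sp w * sp r = 1) : bb c d w r ∈ Omega F (sqf c d) := by
  have hU := nf_dq hS.two_ne hS.ne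
  have hP := nf_dq hS.two_ne hd
  rw [mem_Om_iff hS.two_ne (nf_sqf hS.two_ne hS.ne hd) (by simp; have := hS.n8; omega)]
  exact ⟨by rw [← h1]; exact det_blk' w r, by rw [← h2]; exact sp_blk hS.two_ne hU hP w r⟩

theorem bb_mem_iff (hS : Sp c) (hd : ∀ i, d i ≠ 0) (w : OO c) (r : OO d) :
    bb c d w r ∈ Omega F (sqf c d) ↔ (mx w).det * (mx r).det = 1 ∧ sp w * sp r = 1 := by
  have hU := nf_dq hS.two_ne hS.ne
  have hP := nf_dq hS.two_ne hd
  rw [mem_Om_iff hS.two_ne (nf_sqf hS.two_ne hS.ne hd) (by simp; have := hS.n8; omega)]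
  rw [show (mx (bb c d w r)).det = (mx w).det * (mx r).det from det_blk' w r,
    show sp (bb c d w r) = sp w * sp r from sp_blk hS.two_ne hU hP w r]

theorem exists_zz' (hS : Sp c) (hb : 0 < b) (hd : ∀ i, d i ≠ 0) (s : Cfg c G) :
    (∃ (x : OmV c d) (r : OO d), x.1 = bb c d s.z r) ∨ ∃ (x : OmV c d) (r : OO d), x.1 = bb c d s.z' r := by
  obtain ⟨r, hr⟩ := exists_det_neg (d := d) hS hb hd
  rcases Int.units_eq_one_or (sp s.z * sp r) with h | h
  · exact Or.inl ⟨⟨_, bb_mem hS hb hd s.z r (by rw [s.dz, hr]; ring) h⟩, r, rfl⟩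
  · refine Or.inr ⟨⟨_, bb_mem hS hb hd s.z' r (by rw [s.dz', hr]; ring) ?_⟩, r, rfl⟩
    rw [sp_ne hS s, neg_mul, h, neg_neg]

variable [Finite G] (hS : Sp c) (hch : GChart s d ρ) (hq : QF s)

include hS hch hq

omit hq in
theorem comm_mem : s.u * s.u' * s.u⁻¹ * s.u'⁻¹ * (s.c0)⁻¹ ∈ ρ.range ⊓ s.C := by
  have h1 : s.u * s.u' * s.u⁻¹ * s.u'⁻¹ * (s.c0)⁻¹ =
      (s.u * s.u' * s.u⁻¹ * s.u'⁻¹) * s.ψ s.h * (s.u * s.u' * s.u⁻¹ * s.u'⁻¹)⁻¹ := by
    unfold Cfg.c0
    group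
  rw [h1]
  have hu : s.u ∈ s.C := mem_centralizer_singleton_iff.2 s.ut
  have hu' : s.u' ∈ s.C := mem_centralizer_singleton_iff.2 s.ut'
  exact N_conj hS hch (mul_mem (mul_mem (mul_mem hu hu') (inv_mem hu)) (inv_mem hu')) (M_le hS hch ⟨s.h, rfl⟩)

/-- Lemma III: if `-1 ∈ Ω(U)` then `|Q : Q ∩ K|` is odd -/
theorem odd_III (hz : negI c ∈ Omega F (dq c)) : Odd ((ρ.range ⊓ s.C).relIndex s.Q) := by
  have hu : s.u ∈ s.C := mem_centralizer_singleton_iff.2 s.ut
  have hu' : s.u' ∈ s.C := mem_centralizer_singleton_iff.2 s.ut'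
  obtain ⟨-, hidx⟩ := hq.III hz
  have hζN : s.ψ ⟨negI c, hz⟩ ∈ ρ.range ⊓ s.C := M_le hS hch ⟨_, rfl⟩
  have hζQ : s.ψ ⟨negI c, hz⟩ ∈ s.Q := by
    refine mem_inf.2 ⟨hζN.2, ?_⟩
    rw [mem_centralizer_iff]
    rintro _ ⟨m, rfl⟩
    rw [← map_mul, ← map_mul]
    congr 1
    apply Subtype.ext
    apply Subtype.ext
    apply Units.ext
    show mx m.1 * (-1 : Matrix _ _ F) = (-1 : Matrix _ _ F) * mx m.1
    rw [neg_one_mul, mul_neg_one]
  have hcomm := comm_mem hS hch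
  rcases exists_zz' (d := d) hS hch.b1 hch.dne s with ⟨x, r, hx⟩ | ⟨x, r, hx⟩
  · refine odd_relIndex_in s.C (ρ.range ⊓ s.C) s.Q inf_le_right inf_le_left
      (fun g hg x hx => N_conj hS hch hg hx) (fun g hg x hx => Q_conj hg hx) s.c0 (s.ψ ⟨negI c, hz⟩) s.u s.u'
      hq.c0Q hζN hζQ hidx hu hu' (mem_NQ hS hch hx s.ut s.uψ) s.uu hcomm
  · refine odd_relIndex_in s.C (ρ.range ⊓ s.C) s.Q inf_le_right inf_le_left
      (fun g hg x hx => N_conj hS hch hg hx) (fun g hg x hx => Q_conj hg hx) s.c0⁻¹ (s.ψ ⟨negI c, hz⟩) s.u' s.u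
      (inv_mem hq.c0Q) hζN hζQ (by rw [zpowers_inv]; exact hidx) hu' hu (mem_NQ hS hch hx s.ut' s.uψ') s.uu' ?_
    have h1 : s.u' * s.u * s.u'⁻¹ * s.u⁻¹ * (s.c0⁻¹)⁻¹ = (s.ψ s.h)⁻¹ := by
      unfold Cfg.c0
      group
    rw [h1]
    exact inv_mem (M_le hS hch ⟨s.h, rfl⟩)

theorem caseX (hE : PExtU) (hX : Odd (Nat.card ↥(Omega F (dq d))))
    (hV : negI c ∈ Omega F (dq c) → negV c d ∉ Omega F (sqf c d)) : False := by
  obtain ⟨r, r', hr, hr', hrr, hrr', hc0⟩ := exists_r hS hch hE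
  set k : OO d := r * r' * r⁻¹ * r'⁻¹ with hk
  have hkO : k ∈ Omega F (dq d) := commutator_mem_commutator (mem_top r) (mem_top r')
  by_cases hz : negI c ∈ Omega F (dq c)
  · have hodd := odd_III hS hch hq hz
    have hm : Odd (orderOf k) := by
      have h1 : orderOf k ∣ Nat.card ↥(Omega F (dq d)) := by
        rw [← orderOf_mk k hkO]
        exact orderOf_dvd_natCard _
      exact Odd.of_dvd_nat hX h1
    set I := (ρ.range ⊓ s.C).relIndex s.Q with hI
    have h2 : s.c0 ^ I ∈ ρ.range ⊓ s.C :=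
      pow_relIndex_mem _ _ (fun g hg x hx => N_conj hS hch (mem_inf.1 hg).1 hx) hq.c0Q
    have h3 : Act ρ (s.c0 ^ (orderOf k)) (bb c d 1 1) := by
      have h4 := hc0.pow (orderOf k)
      rwa [bb_pow, pow_orderOf_eq_one] at h4
    have h5 : Act ρ ((s.c0 ^ (orderOf k)) ^ I) (bb c d 1 1) := by
      have h6 := h3.pow I
      rwa [bb_pow, one_pow] at h6
    have h6 : (s.c0 ^ (orderOf k)) ^ I ∈ ρ.range := by
      rw [← pow_mul, Nat.mul_comm, pow_mul]
      exact pow_mem h2.1 _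
    obtain ⟨x, hx⟩ := h6
    have hne : ρ x ≠ 1 := by
      intro h1
      rw [hx, ← pow_mul] at h1
      have h7 := orderOf_dvd_of_pow_eq_one h1
      have h8 := Odd.of_dvd_nat (hm.mul hodd) h7
      exact (Nat.not_even_iff_odd.2 h8) s.even_c0
    have h7 : Act ρ (ρ x) x.1 := act_rho x
    rw [← hx] at h5
    rcases uniq hS hch h7 h5 with h8 | h8
    · apply hne
      have h9 : x = 1 := Subtype.ext (by rw [h8, bb_one]; rfl)
      rw [h9, map_one]
    · rw [bb_one, mul_one] at h8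
      apply hV hz
      rw [← h8]
      exact x.2
  · obtain ⟨j, hj⟩ := hq.tI hz
    have h1 := hc0.pow j
    rw [← hj, bb_pow] at h1
    have h2 : Act ρ s.t (bb c d 1 (negI d)) := act_t hS hch
    have h3 := uniq1 hS hch h1 h2
    have h4 : k ^ j = 1 := eq_one_of_odd hX (pow_mem hkO j) (by rw [h3]; exact negI_mul_self d)
    rw [h4] at h3
    exact negI_ne d hS.two_ne hch.b1 h3.symm

/-- `b ≠ 1` -/
theorem b_ne_one (hE : PExtU) : b ≠ 1 := by
  rintro rfl
  have hcomm : ∀ A B : OO d, A * B = B * A := by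
    intro A B
    apply Subtype.ext
    apply Units.ext
    show mx A * mx B = mx B * mx A
    ext i j
    rw [Matrix.mul_apply, Matrix.mul_apply, Fin.sum_univ_one, Fin.sum_univ_one, Subsingleton.elim i 0,
      Subsingleton.elim j 0, mul_comm]
  refine caseX hS hch hq hE ?_ ?_
  · have h1 : Omega F (dq d) = ⊥ := by
      rw [eq_bot_iff]
      show commutator _ ≤ _
      rw [commutator_def, commutator_le]
      intro A _ B _
      rw [mem_bot, commutatorElement_eq_one_iff_mul_comm]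
      exact hcomm A B
    rw [h1, card_bot]
    exact odd_one
  · intro hz h
    rw [negV_eq, bb_mem_iff hS hch.dne] at h
    have h1 := ((mem_Om_iff hS.two_ne (nf_dq hS.two_ne hS.ne)
      (by rw [Fintype.card_fin]; have := hS.n8; omega) _).1 hz).1
    rw [h1, one_mul] at h
    have h2 : (mx (negI d)).det = -1 := by
      show (-1 : Matrix (Fin 1) (Fin 1) F).det = -1
      rw [Matrix.det_fin_one]
      simp
    rw [h2] at h
    apply hS.two_ne
    linear_combination -h.1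

end

end Cfsg.Agent.H323.OI
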