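import Mathlib
import Cfsg.Agent.H323.OI.GeoB

/-!
# S3325: geometry, `b ≤ 2` and the discriminant of `P` (helper323)
-/

set_option autoImplicit false

namespace Cfsg.Agent.H323.OI

open Cfsg Subgroup Matrix QuadraticMap
open Cfsg.Agent.H183
open Cfsg.Agent.LieClassical.OrthCore
open Cfsg.Agent.ClassicalGeometry.Reflection Cfsg.Agent.ClassicalGeometry.SpinorSign

section

variable {F : Type} [Field F] [Fintype F] {n b : ℕ} {c : Fin n → F} {d : Fin b → F} {G : Type} [Group G] [Finite G]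
  {s : Cfg c G} {ρ : OmV c d →* G}

theorem four_cases (hS : Sp c) : Fintype.card F % 4 = 1 ∨ Fintype.card F % 4 = 3 := by
  have h1 := Nat.odd_iff.1 hS.odd
  omega

theorem odd_of_nonsquare (hS : Sp c) (h2 : PO2) (d : Fin 2 → F) (hd : ∀ i, d i ≠ 0) (hsq : ¬ IsSquare (∏ i, d i)) :
    Odd (Nat.card ↥(Omega F (dq d))) := by
  obtain ⟨h3, h4⟩ := h2 d hS.odd hd
  have h0 : (∏ i, d i) ≠ 0 := Finset.prod_ne_zero_iff.2 fun i _ => hd i
  have hpos : 0 < Fintype.card F := Fintype.card_pos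
  rcases four_cases hS with h | h
  · have h5 : IsSquare (-1 : F) := FiniteField.isSquare_neg_one_iff.2 (by omega)
    have h6 : ¬ IsSquare (-(∏ i, d i)) := by
      intro h7
      apply hsq
      have := h5.mul h7
      rwa [neg_one_mul, neg_neg] at this
    have h7 := h4 h6
    rw [Nat.odd_iff]
    omega
  · have h5 : ¬ IsSquare (-1 : F) := fun h8 => FiniteField.isSquare_neg_one_iff.1 h8 h
    have h6 : IsSquare (-(∏ i, d i)) := by
      classical
      have h9 : quadraticChar F (-(∏ i, d i)) = 1 := by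
        rw [← neg_one_mul, map_mul, (quadraticChar_neg_one_iff_not_isSquare).2 h5,
          (quadraticChar_neg_one_iff_not_isSquare).2 hsq]
        norm_num
      exact (quadraticChar_one_iff_isSquare (neg_ne_zero.2 h0)).1 h9
    have h7 := h3 h6
    rw [Nat.odd_iff]
    omega

/-- the order of `Ω(P)` for square discriminant, `e = ±1` -/
theorem card_of_square (hS : Sp c) (h2 : PO2) (d : Fin 2 → F) (hd : ∀ i, d i ≠ 0) (hsq : IsSquare (∏ i, d i)) :
    (Fintype.card F % 4 = 1 → 2 * Nat.card ↥(Omega F (dq d)) = Fintype.card F - 1) ∧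
    (Fintype.card F % 4 = 3 → 2 * Nat.card ↥(Omega F (dq d)) = Fintype.card F + 1) := by
  obtain ⟨h3, h4⟩ := h2 d hS.odd hd
  have h0 : (∏ i, d i) ≠ 0 := Finset.prod_ne_zero_iff.2 fun i _ => hd i
  refine ⟨fun h => h3 ?_, fun h => h4 ?_⟩
  · have h5 : IsSquare (-1 : F) := FiniteField.isSquare_neg_one_iff.2 (by omega)
    have := h5.mul hsq
    rwa [neg_one_mul] at this
  · intro h6
    have h5 : ¬ IsSquare (-1 : F) := fun h8 => FiniteField.isSquare_neg_one_iff.1 h8 h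
    classical
    have h7 : quadraticChar F (-(∏ i, d i)) = 1 := (quadraticChar_one_iff_isSquare (neg_ne_zero.2 h0)).2 h6
    rw [← neg_one_mul, map_mul, (quadraticChar_neg_one_iff_not_isSquare).2 h5,
      (quadraticChar_one_iff_isSquare h0).2 hsq] at h7
    exact absurd h7 (by norm_num)

theorem v4_Q {ι : Type} [Fintype ι] [DecidableEq ι] (h2 : (2 : F) ≠ 0) (Q : QuadraticForm F (ι → F))
    (v : Fin 3 → ι → F) (hv : ∀ i, Q (v i) ≠ 0) (he : ∀ i j, Q (v i) = Q (v j))
    (ho : ∀ i j, i ≠ j → polar (⇑Q) (v i) (v j) = 0) :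
    ∃ (a a' : ↥(isometryGroup F ⇑Q)), a * a = 1 ∧ a' * a' = 1 ∧ a' * a = a * a' ∧
      (mx a).det = 1 ∧ (mx a').det = 1 ∧ sp a = 1 ∧ sp a' = 1 ∧ mx a *ᵥ v 2 = v 2 ∧ mx a' *ᵥ v 0 = v 0 ∧
      mx (a * a') *ᵥ v 1 = v 1 ∧ mx a *ᵥ v 0 = -v 0 ∧ mx a' *ᵥ v 2 = -v 2 := by
  classical
  let R : Fin 3 → ↥(isometryGroup F ⇑Q) := fun i => reflIso Q (v i) (hv i)
  have hR : ∀ i x, mx (R i) *ᵥ x = x - ((Q (v i))⁻¹ * polar (⇑Q) (v i) x) • v i := fun i x =>
    reflIso_mulVec Q (v i) (hv i) x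
  have hRR : ∀ i, R i * R i = 1 := fun i => reflIso_mul_self Q (v i) (hv i)
  have hfix : ∀ i j, i ≠ j → mx (R i) *ᵥ v j = v j := by
    intro i j hij
    rw [hR, ho i j hij, mul_zero, zero_smul, sub_zero]
  have hneg : ∀ i, mx (R i) *ᵥ v i = -v i := by
    intro i
    rw [hR, Cfsg.Agent.ClassicalGeometry.Reflection.polar_self', mul_comm (2 : F), ← mul_assoc, inv_mul_cancel₀ (hv i), one_mul, two_smul]
    abel
  have hmulv : ∀ (A B : ↥(isometryGroup F ⇑Q)) (x : ι → F), mx (A * B) *ᵥ x = mx A *ᵥ (mx B *ᵥ x) := by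
    intro A B x
    rw [mx_mul, mulVec_mulVec]
  have hc : ∀ i j, i ≠ j → R i * R j = R j * R i := by
    intro i j hij
    apply ext_iso
    intro x
    rw [hmulv, hmulv, hR j x, hR i x, mulVec_sub, mulVec_sub, mulVec_smul, mulVec_smul, hfix i j hij,
      hfix j i (Ne.symm hij), hR i x, hR j x]
    abel
  have hdet : ∀ i, (mx (R i)).det = -1 := fun i => det_reflIso Q (v i) (hv i)
  have hsp : ∀ i j, sp (R i) = sp (R j) := by
    intro i j
    have h1 : ∀ i, sp (R i) = if IsSquare (1 * Q (v i)) then -1 else 1 := fun i => by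
      have := spinorSign_reflIso h2 Q one_ne_zero (v i) (hv i)
      exact this
    rw [h1, h1]
    have := he i j
    simp only [this]
  have hcp : ∀ i j, i ≠ j → (R i * R j) * (R i * R j) = 1 := by
    intro i j hij
    calc (R i * R j) * (R i * R j) = (R i * R j) * (R j * R i) := by rw [hc i j hij]
      _ = R i * (R j * R j) * R i := by group
      _ = 1 := by rw [hRR, mul_one, hRR]
  have hd2 : ∀ i j, (mx (R i * R j)).det = 1 := by
    intro i j
    rw [mx_mul, Matrix.det_mul, hdet, hdet]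
    ring
  have hs2 : ∀ i j, sp (R i * R j) = 1 := by
    intro i j
    rw [map_mul, hsp i j]
    exact units_sq _
  have e12 : R 1 * R 2 * (R 0 * R 1) = R 0 * R 1 * (R 1 * R 2) := by
    calc R 1 * R 2 * (R 0 * R 1) = R 1 * (R 2 * R 0) * R 1 := by group
      _ = R 1 * (R 0 * R 2) * R 1 := by rw [hc 2 0 (by decide)]
      _ = (R 1 * R 0) * (R 2 * R 1) := by group
      _ = (R 0 * R 1) * (R 1 * R 2) := by rw [hc 1 0 (by decide), hc 2 1 (by decide)]
  refine ⟨R 0 * R 1, R 1 * R 2, hcp 0 1 (by decide), hcp 1 2 (by decide), e12, hd2 _ _, hd2 _ _, hs2 _ _, hs2 _ _,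
    ?_, ?_, ?_, ?_, ?_⟩
  · rw [hmulv, hfix 1 2 (by decide), hfix 0 2 (by decide)]
  · rw [hmulv, hfix 2 0 (by decide), hfix 1 0 (by decide)]
  · have h1 : R 0 * R 1 * (R 1 * R 2) = R 0 * R 2 := by
      calc R 0 * R 1 * (R 1 * R 2) = R 0 * (R 1 * R 1) * R 2 := by group
        _ = R 0 * R 2 := by rw [hRR, mul_one]
    rw [h1, hmulv, hfix 2 1 (by decide), hfix 0 1 (by decide)]
  · rw [hmulv, hfix 1 0 (by decide), hneg]
  · rw [hmulv, hneg, mulVec_neg, hfix 1 2 (by decide)]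

theorem v4_nf {ι : Type} [Fintype ι] [DecidableEq ι] (h2 : (2 : F) ≠ 0) {f : (ι → F) → F} (hf : NF f)
    (v : Fin 3 → ι → F) (hv : ∀ i, f (v i) ≠ 0) (he : ∀ i j, f (v i) = f (v j))
    (ho : ∀ i j, i ≠ j → polar f (v i) (v j) = 0) :
    ∃ (a a' : ↥(isometryGroup F f)), a * a = 1 ∧ a' * a' = 1 ∧ a' * a = a * a' ∧
      (mx a).det = 1 ∧ (mx a').det = 1 ∧ sp a = 1 ∧ sp a' = 1 ∧ mx a *ᵥ v 2 = v 2 ∧ mx a' *ᵥ v 0 = v 0 ∧
      mx (a * a') *ᵥ v 1 = v 1 ∧ mx a *ᵥ v 0 = -v 0 ∧ mx a' *ᵥ v 2 = -v 2 := by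
  obtain ⟨Q, rfl, hQ⟩ := hf
  exact v4_Q h2 Q v hv he ho

theorem dq_single (d : Fin b → F) (i : Fin b) : dq d (Pi.single i 1) = d i := by
  show ∑ j, d j * (Pi.single i (1 : F) : Fin b → F) j ^ 2 = _
  rw [Finset.sum_eq_single i]
  · rw [Pi.single_eq_same]; ring
  · intro j _ hj
    rw [Pi.single_eq_of_ne hj]; ring
  · intro h
    exact absurd (Finset.mem_univ _) h

theorem polar_dq_single (d : Fin b → F) {i j : Fin b} (hij : i ≠ j) :
    polar (dq d) (Pi.single i 1) (Pi.single j 1) = 0 := by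
  rw [QuadraticMap.polar, dq_single, dq_single]
  have h1 : dq d (Pi.single i 1 + Pi.single j 1) = d i + d j := by
    show ∑ k, d k * ((Pi.single i (1 : F) : Fin b → F) + (Pi.single j (1 : F) : Fin b → F)) k ^ 2 = _
    have h2 : ∀ k, d k * ((Pi.single i (1 : F) : Fin b → F) + (Pi.single j (1 : F) : Fin b → F)) k ^ 2 =
        d k * (Pi.single i (1 : F) : Fin b → F) k ^ 2 + d k * (Pi.single j (1 : F) : Fin b → F) k ^ 2 := by
      intro k
      rw [Pi.add_apply]
      by_cases hk : k = i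
      · subst hk
        rw [Pi.single_eq_same, Pi.single_eq_of_ne hij]
        ring
      · rw [Pi.single_eq_of_ne hk]
        ring
    rw [Finset.sum_congr rfl fun k _ => h2 k, Finset.sum_add_distrib]
    exact congrArg₂ (· + ·) (dq_single d i) (dq_single d j)
  rw [h1]
  ring

theorem QF.four (hq : QF s) : ¬ 4 ∣ (zpowers s.c0).relIndex s.Q := by
  have key : ∀ (H : Subgroup G), zpowers s.c0 ≤ H → H ≤ s.Q → (zpowers s.c0).relIndex H ∣ 2 → Odd (H.relIndex s.Q) →
      ¬ 4 ∣ (zpowers s.c0).relIndex s.Q := by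
    intro H h1 h2 h3 h4 h5
    rw [← relIndex_mul_relIndex _ _ _ h1 h2] at h5
    obtain ⟨k, hk⟩ := h3
    have h6 : 4 ∣ 2 * H.relIndex s.Q := by
      rw [hk]
      exact h5.trans ⟨k, by ring⟩
    obtain ⟨l, hl⟩ := h4
    rw [hl] at h6
    omega
  have hc0 : zpowers s.c0 ≤ s.Q := by
    rw [zpowers_le]
    exact hq.c0Q
  by_cases hn : Odd n
  · obtain ⟨y, hy⟩ := hq.I hn
    have h1 : ∀ a ∈ zpowers s.c0, y * a * y⁻¹ ∈ zpowers s.c0 := by
      rintro _ ⟨k, rfl⟩
      refine ⟨-k, ?_⟩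
      show s.c0 ^ (-k) = y * s.c0 ^ k * y⁻¹
      rw [← conj_zpow, hy.yc, _root_.inv_zpow, _root_.zpow_neg]
    have h2 : y⁻¹ = y := inv_eq_of_mul_eq_one_right hy.yy
    refine key (zpowers s.c0 ⊔ zpowers y) le_sup_left ?_ (relIndex_dvd_two _ y h1 ?_ ?_) hy.idx
    · rw [sup_le_iff]
      exact ⟨hc0, by rw [zpowers_le]; exact hy.yQ⟩
    · intro a ha
      have h3 := h1 a ha
      rw [h2] at h3
      rwa [h2]
    · rw [hy.yy]
      exact one_mem _
  · rw [Nat.not_odd_iff_even] at hn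
    by_cases hz : negI c ∈ Omega F (dq c)
    · obtain ⟨-, hidx⟩ := hq.III hz
      have hcm : ∀ a ∈ zpowers s.c0, s.ψ ⟨negI c, hz⟩ * a * (s.ψ ⟨negI c, hz⟩)⁻¹ = a := by
        intro a ha
        have h1 := mem_centralizer_iff.1 (mem_inf.1 (hc0 ha)).2 (s.ψ ⟨negI c, hz⟩) ⟨_, rfl⟩
        rw [h1]
        group
      have hzz : s.ψ ⟨negI c, hz⟩ * s.ψ ⟨negI c, hz⟩ = 1 := by
        rw [← map_mul]
        have : (⟨negI c, hz⟩ * ⟨negI c, hz⟩ : Om c) = 1 := Subtype.ext (negI_mul_self c)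
        rw [this, map_one]
      have hinv : (s.ψ ⟨negI c, hz⟩)⁻¹ = s.ψ ⟨negI c, hz⟩ := inv_eq_of_mul_eq_one_right hzz
      have hζQ : s.ψ ⟨negI c, hz⟩ ∈ s.Q := by
        refine mem_inf.2 ⟨mem_centralizer_singleton_iff.2 (s.fix _).symm, ?_⟩
        rw [mem_centralizer_iff]
        rintro _ ⟨m, rfl⟩
        rw [← map_mul, ← map_mul]
        congr 1
        apply Subtype.ext
        apply Subtype.ext
        apply Units.ext
        show mx m.1 * (-1 : Matrix _ _ F) = (-1 : Matrix _ _ F) * mx m.1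
        rw [neg_one_mul, mul_neg_one]
      refine key (zpowers s.c0 ⊔ zpowers (s.ψ ⟨negI c, hz⟩)) le_sup_left ?_
        (relIndex_dvd_two _ _ (fun a ha => by rw [hcm a ha]; exact ha) (fun a ha => ?_) ?_) (by rwa [sup_comm])
      · rw [sup_le_iff]
        exact ⟨hc0, by rw [zpowers_le]; exact hζQ⟩
      · have h3 := hcm a ha
        rw [hinv] at h3 ⊢
        rw [h3]
        exact ha
      · rw [hzz]
        exact one_mem _
    · obtain ⟨y, hyQ, hyy, hidx⟩ := hq.II hn hz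
      have h0 : zpowers s.c0 ≤ zpowers y := by
        rw [zpowers_le, ← hyy]
        exact mul_mem (mem_zpowers y) (mem_zpowers y)
      have hcm : ∀ a ∈ zpowers s.c0, y * a = a * y := by
        intro a ha
        obtain ⟨k, rfl⟩ := h0 ha
        exact ((Commute.refl y).zpow_right k).eq
      have h1 : zpowers s.c0 ⊔ zpowers y = zpowers y := sup_eq_right.2 h0
      refine key (zpowers y) h0 (by rw [zpowers_le]; exact hyQ) ?_ hidx
      have h2 := relIndex_dvd_two (zpowers s.c0) y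
        (fun a ha => by rw [hcm a ha, mul_inv_cancel_right]; exact ha)
        (fun a ha => by rw [mul_assoc, ← hcm a ha, inv_mul_cancel_left]; exact ha)
        (by rw [hyy]; exact mem_zpowers _)
      rwa [h1] at h2

variable (hS : Sp c) (hch : GChart s d ρ) (hq : QF s)

include hS hch hq

theorem sq_of_two (hE : PExtU) (h2 : PO2) (hb : b = 2) : IsSquare (∏ i, d i) := by
  subst hb
  by_contra hsq
  have hX := odd_of_nonsquare hS h2 d hch.dne hsq
  refine caseX hS hch hq hE hX ?_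
  intro hz h
  rw [negV_eq, bb_mem_iff hS hch.dne] at h
  have h1 := (mem_Om_iff hS.two_ne (nf_dq hS.two_ne hS.ne)
    (by rw [Fintype.card_fin]; have := hS.n8; omega) _).1 hz
  rw [h1.1, h1.2, one_mul, one_mul] at h
  have h3 : negI d ∈ Omega F (dq d) := (mem_Om_iff hS.two_ne (nf_dq hS.two_ne hch.dne) (by simp) _).2 h
  exact negI_ne d hS.two_ne (by norm_num) (eq_one_of_odd hX h3 (negI_mul_self d))

omit [Finite G] hch hq in
/-- three pairwise orthogonal reflections with the same norm -/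
theorem exists_v4 (hb : 3 ≤ b) (hd : ∀ i, d i ≠ 0) (h3 : ∀ i j : Fin b, i.val < 3 → j.val < 3 → 3 ≤ b → d i = d j) :
    ∃ (a a' : OO d) (v₀ v₁ v₂ : Fin b → F), v₀ ≠ 0 ∧ v₁ ≠ 0 ∧ v₂ ≠ 0 ∧ a * a = 1 ∧ a' * a' = 1 ∧ a' * a = a * a' ∧
      (mx a).det = 1 ∧ (mx a').det = 1 ∧ sp a = 1 ∧ sp a' = 1 ∧ mx a *ᵥ v₂ = v₂ ∧ mx a' *ᵥ v₀ = v₀ ∧
      mx (a * a') *ᵥ v₁ = v₁ ∧ mx a *ᵥ v₀ = -v₀ ∧ mx a' *ᵥ v₂ = -v₂ := by
  let ι : Fin 3 → Fin b := fun i => ⟨i.1, lt_of_lt_of_le i.2 hb⟩
  have hι : ∀ i j, i ≠ j → ι i ≠ ι j := by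
    intro i j hij h
    apply hij
    have := congrArg Fin.val h
    exact Fin.ext this
  obtain ⟨a, a', h⟩ := v4_nf hS.two_ne (nf_dq hS.two_ne hd) (fun i => Pi.single (ι i) (1 : F))
    (fun i => by rw [dq_single]; exact hd _)
    (fun i j => by rw [dq_single, dq_single]; exact h3 _ _ i.2 j.2 hb)
    (fun i j hij => polar_dq_single d (hι i j hij))
  exact ⟨a, a', _, _, _, by simp, by simp, by simp, h⟩

theorem b_lt_three : b < 3 := by
  by_contra hb
  push Not at hb
  obtain ⟨a, a', v₀, v₁, v₂, n0, n1, n2, haa, haa', hcomm, hda, hda', hsa, hsa', e1, e2, e3, e4, e5⟩ :=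
    exists_v4 (c := c) hS hb hch.dne hch.d3
  have hneg : ∀ v : Fin b → F, v ≠ 0 → v = -v → False := by
    intro v hv h
    have h5 : (2 : F) • v = 0 := by
      rw [two_smul]
      nth_rewrite 1 [h]
      simp
    rcases smul_eq_zero.1 h5 with h6 | h6
    · exact hS.two_ne h6
    · exact hv h6
  have hxa : bb c d 1 a ∈ Omega F (sqf c d) := bb_mem hS hch.b1 hch.dne 1 a
    (by rw [hda, mul_one]; exact Matrix.det_one) (by rw [hsa, map_one, mul_one])
  have hxa' : bb c d 1 a' ∈ Omega F (sqf c d) := bb_mem hS hch.b1 hch.dne 1 a'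
    (by rw [hda', mul_one]; exact Matrix.det_one) (by rw [hsa', map_one, mul_one])
  set x : OmV c d := ⟨_, hxa⟩ with hx
  set y : OmV c d := ⟨_, hxa'⟩ with hy
  -- elements `ρ(1 ⊥ r)` of `Q`
  have hQ : ∀ (w : OmV c d) (r : OO d), w.1 = bb c d 1 r → ρ w ∈ s.Q := by
    intro w r hw
    refine mem_inf.2 ⟨mem_centralizer_singleton_iff.2 (rho_comm hS hch hw), ?_⟩
    rw [mem_centralizer_iff]
    rintro _ ⟨m, rfl⟩
    have h1 := rho_psi hS hch hw m
    have h2 : cj (1 : OO c) m = m := by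
      rw [cj, map_one]
      rfl
    rw [h2] at h1
    exact (mul_inv_eq_iff_eq_mul.1 h1).symm
  have hinj : ∀ (w : OmV c d) (r : OO d), w.1 = bb c d 1 r → ρ w = 1 → r = 1 := by
    intro w r hw h
    have h1 : Act ρ (ρ w) (bb c d 1 r) := by rw [← hw]; exact act_rho w
    have h2 : Act ρ (ρ w) (bb c d 1 1) := by rw [h, bb_one]; exact Act.one
    exact uniq1 hS hch h1 h2
  have ht : ∀ (w : OmV c d) (r : OO d), w.1 = bb c d 1 r → s.t = ρ w → r = negI d := by
    intro w r hw h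
    have h1 : Act ρ (ρ w) (bb c d 1 r) := by rw [← hw]; exact act_rho w
    rw [← h] at h1
    exact uniq1 hS hch h1 (act_t hS hch)
  have hnegv : ∀ v : Fin b → F, mx (negI d) *ᵥ v = -v := by
    intro v
    show (-1 : Matrix _ _ F) *ᵥ v = -v
    rw [neg_mulVec, one_mulVec]
  have a1 : a ≠ 1 := by
    rintro rfl
    apply hneg v₀ n0
    rw [← e4]
    show v₀ = (1 : Matrix _ _ F) *ᵥ v₀
    rw [one_mulVec]
  have a1' : a' ≠ 1 := by
    rintro rfl
    apply hneg v₂ n2
    rw [← e5]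
    show v₂ = (1 : Matrix _ _ F) *ᵥ v₂
    rw [one_mulVec]
  have haa1 : a' ≠ a := by
    rintro rfl
    exact hneg v₂ n2 (e1.symm.trans e5)
  obtain ⟨E, hE1, hE2, hE3⟩ := exists_e8 s.Q (x := ρ x) (y := ρ y) (z := s.t) (hQ x a rfl) (hQ y a' rfl)
    (mem_inf.2 ⟨mem_centralizer_singleton_iff.2 rfl, by
      rw [mem_centralizer_iff]
      rintro _ ⟨m, rfl⟩
      exact (s.fix m).symm⟩)
    (by
      rw [← map_mul]
      have : x * x = 1 := Subtype.ext (by
        show bb c d 1 a * bb c d 1 a = 1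
        rw [bb_mul, haa, one_mul, bb_one])
      rw [this, map_one])
    (by
      rw [← map_mul]
      have : y * y = 1 := Subtype.ext (by
        show bb c d 1 a' * bb c d 1 a' = 1
        rw [bb_mul, haa', one_mul, bb_one])
      rw [this, map_one])
    s.tt
    (by
      rw [← map_mul, ← map_mul]
      congr 1
      apply Subtype.ext
      show bb c d 1 a' * bb c d 1 a = bb c d 1 a * bb c d 1 a'
      rw [bb_mul, bb_mul, hcomm])
    (rho_comm hS hch (x := x) (w := 1) (r := a) rfl).symm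
    (rho_comm hS hch (x := y) (w := 1) (r := a') rfl).symm
    (fun h => a1 (hinj x a rfl h)) (fun h => a1' (hinj y a' rfl h))
    (fun h => by
      have h1 : ρ (y * x) = 1 := by
        rw [map_mul, h, ← map_mul]
        have : x * x = 1 := Subtype.ext (by
          show bb c d 1 a * bb c d 1 a = 1
          rw [bb_mul, haa, one_mul, bb_one])
        rw [this, map_one]
      have h2 := hinj (y * x) (a' * a) (by
        show bb c d 1 a' * bb c d 1 a = _
        rw [bb_mul, one_mul]) h1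
      apply haa1
      calc a' = a' * (a * a) := by rw [haa, mul_one]
        _ = (a' * a) * a := by group
        _ = a := by rw [h2, one_mul])
    s.t1
    (fun h => by
      have h1 := ht x a rfl h
      apply hneg v₂ n2
      rw [← hnegv, ← h1, e1])
    (fun h => by
      have h1 := ht y a' rfl h
      apply hneg v₀ n0
      rw [← hnegv, ← h1, e2])
    (fun h => by
      rw [← map_mul] at h
      have h1 := ht (x * y) (a * a') (by
        show bb c d 1 a * bb c d 1 a' = _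
        rw [bb_mul, one_mul]) h
      apply hneg v₁ n1
      rw [← hnegv, ← h1, e3])
  exact no_e8' s.Q s.c0 hq.c0Q hq.four E hE1 hE2 hE3

end

end Cfsg.Agent.H323.OI
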