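import Mathlib
import Cfsg.Agent.H323.OI.GeoC

/-!
# S3325: geometry, `P` a plane with square discriminant (helper323)
-/

set_option autoImplicit false

namespace Cfsg.Agent.H323.OI

open Cfsg Subgroup Matrix QuadraticMap
open Cfsg.Agent.H183

section plane

variable {F : Type} [Field F] [Fintype F] {d : Fin 2 → F}

theorem exists_val (ho : Odd (Fintype.card F)) (hd : ∀ i, d i ≠ 0) (a : F) : ∃ v : Fin 2 → F, dq d v = a := by
  have h1 : (Polynomial.C (d 0) * Polynomial.X ^ 2 - Polynomial.C a).degree = 2 := by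
    rw [Polynomial.degree_sub_eq_left_of_degree_lt]
    · exact Polynomial.degree_C_mul_X_pow 2 (hd 0)
    · rw [Polynomial.degree_C_mul_X_pow 2 (hd 0)]
      exact lt_of_le_of_lt Polynomial.degree_C_le (by norm_num)
  have h2 : (Polynomial.C (d 1) * Polynomial.X ^ 2).degree = 2 := Polynomial.degree_C_mul_X_pow 2 (hd 1)
  obtain ⟨x, y, hxy⟩ := FiniteField.exists_root_sum_quadratic h1 h2 (Nat.odd_iff.1 ho)
  refine ⟨![x, y], ?_⟩
  show ∑ i, d i * (![x, y] : Fin 2 → F) i ^ 2 = a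
  rw [Fin.sum_univ_two]
  simp at hxy ⊢
  linear_combination hxy

theorem two_ne_of_odd (ho : Odd (Fintype.card F)) : (2 : F) ≠ 0 := by
  intro h2
  have h3 : ringChar F = 2 := by
    have h4 : ringChar F ∣ 2 := (ringChar.spec F 2).1 (by exact_mod_cast h2)
    exact (Nat.prime_dvd_prime_iff_eq (CharP.char_is_prime F (ringChar F)) Nat.prime_two).1 h4
  have h5 := FiniteField.even_card_of_char_two (F := F) h3
  rw [Nat.odd_iff.1 ho] at h5
  exact absurd h5 (by norm_num)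

/-- `O(P)` hits all cosets -/
theorem exists_ds (ho : Odd (Fintype.card F)) (hd : ∀ i, d i ≠ 0) (ε : F) (hε : ε = 1 ∨ ε = -1) (δ : ℤˣ) :
    ∃ r : OO d, (mx r).det = ε ∧ sp r = δ := by
  classical
  have h2 := two_ne_of_odd ho
  have hf := nf_dq h2 hd
  obtain ⟨v, hv⟩ := exists_val (d := d) ho hd 1
  have hch : ringChar F ≠ 2 := fun h => by
    have h5 := FiniteField.even_card_of_char_two (F := F) h
    rw [Nat.odd_iff.1 ho] at h5
    exact absurd h5 (by norm_num)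
  obtain ⟨ν, hν⟩ := FiniteField.exists_nonsquare hch
  obtain ⟨w, hw⟩ := exists_val (d := d) ho hd ν
  have hν0 : ν ≠ 0 := by
    rintro rfl
    exact hν (IsSquare.zero)
  obtain ⟨A, -, hA1, hA2⟩ := exists_refl_nf h2 hf v (by rw [hv]; exact one_ne_zero)
  obtain ⟨B, -, hB1, hB2⟩ := exists_refl_nf h2 hf w (by rw [hw]; exact hν0)
  rw [if_pos (by rw [hv]; exact IsSquare.one)] at hA2
  rw [if_neg (by rw [hw]; exact hν)] at hB2
  rcases hε with rfl | rfl <;> rcases Int.units_eq_one_or δ with rfl | rfl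
  · exact ⟨1, Matrix.det_one, map_one _⟩
  · exact ⟨A * B, by rw [mx_mul, Matrix.det_mul, hA1, hB1]; ring, by rw [map_mul, hA2, hB2, mul_one]⟩
  · exact ⟨B, hB1, hB2⟩
  · exact ⟨A, hA1, hA2⟩

theorem sp_neg_Q (h2 : (2 : F) ≠ 0) (Q : QuadraticForm F (Fin 2 → F)) (h0 : Q (Pi.single 0 1) ≠ 0)
    (h1 : Q (Pi.single 1 1) ≠ 0) (ho : polar (⇑Q) (Pi.single 0 1) (Pi.single 1 1) = 0)
    (hsq : IsSquare (Q (Pi.single 0 1)) ↔ IsSquare (Q (Pi.single 1 1))) (N : ↥(isometryGroup F ⇑Q))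
    (hN : mx N = -1) : sp N = 1 := by
  classical
  have ho' : polar (⇑Q) (Pi.single 1 1) (Pi.single 0 1) = 0 := by rw [polar_comm]; exact ho
  have key : N = Cfsg.Agent.ClassicalGeometry.Reflection.reflIso Q (Pi.single 0 1) h0 *
      Cfsg.Agent.ClassicalGeometry.Reflection.reflIso Q (Pi.single 1 1) h1 := by
    apply ext_iso
    intro x
    rw [hN, mx_mul, ← mulVec_mulVec, neg_mulVec, one_mulVec]
    have hx : x = x 0 • (Pi.single 0 1 : Fin 2 → F) + x 1 • (Pi.single 1 1 : Fin 2 → F) := by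
      funext i
      fin_cases i <;> simp
    have e0 : ∀ (v : Fin 2 → F) (hv : Q v ≠ 0), mx (Cfsg.Agent.ClassicalGeometry.Reflection.reflIso Q v hv) *ᵥ v = -v := by
      intro v hv
      rw [mx, reflIso_mulVec, Cfsg.Agent.ClassicalGeometry.Reflection.polar_self', mul_comm (2 : F), ← mul_assoc,
        inv_mul_cancel₀ hv, one_mul, two_smul]
      abel
    have e1 : ∀ (v w : Fin 2 → F) (hv : Q v ≠ 0), polar (⇑Q) v w = 0 →
        mx (Cfsg.Agent.ClassicalGeometry.Reflection.reflIso Q v hv) *ᵥ w = w := by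
      intro v w hv hvw
      rw [mx, reflIso_mulVec, hvw, mul_zero, zero_smul, sub_zero]
    nth_rewrite 2 [hx]
    rw [mulVec_add, mulVec_add, mulVec_smul, mulVec_smul, mulVec_smul, mulVec_smul, e1 _ _ h1 ho', e0 _ h0, e0 _ h1,
      mulVec_neg, e1 _ _ h0 ho]
    nth_rewrite 1 [hx]
    rw [smul_neg, smul_neg, neg_add]
  have h3 : ∀ (v : Fin 2 → F) (hv : Q v ≠ 0), sp (Cfsg.Agent.ClassicalGeometry.Reflection.reflIso Q v hv) =
      if IsSquare (1 * Q v) then -1 else 1 := fun v hv =>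
    Cfsg.Agent.ClassicalGeometry.SpinorSign.spinorSign_reflIso h2 Q one_ne_zero v hv
  rw [key, map_mul, h3, h3]
  simp only [one_mul]
  by_cases h4 : IsSquare (Q (Pi.single 0 1))
  · rw [if_pos h4, if_pos (hsq.1 h4)]
    norm_num
  · rw [if_neg h4, if_neg fun h => h4 (hsq.2 h)]
    norm_num

theorem sp_neg_f (h2 : (2 : F) ≠ 0) {f : (Fin 2 → F) → F} (hf : NF f) (h0 : f (Pi.single 0 1) ≠ 0)
    (h1 : f (Pi.single 1 1) ≠ 0) (ho : polar f (Pi.single 0 1) (Pi.single 1 1) = 0)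
    (hsq : IsSquare (f (Pi.single 0 1)) ↔ IsSquare (f (Pi.single 1 1))) (N : ↥(isometryGroup F f))
    (hN : mx N = -1) : sp N = 1 := by
  obtain ⟨Q, rfl, -⟩ := hf
  exact sp_neg_Q h2 Q h0 h1 ho hsq N hN

theorem sp_negI (ho : Odd (Fintype.card F)) (hd : ∀ i, d i ≠ 0) (hsq : IsSquare (∏ i, d i)) :
    sp (negI d) = 1 := by
  have h2 := two_ne_of_odd ho
  refine sp_neg_f h2 (nf_dq h2 hd) (by rw [dq_single]; exact hd 0) (by rw [dq_single]; exact hd 1)
    (polar_dq_single d (by decide)) ?_ _ rfl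
  rw [dq_single, dq_single]
  rw [Fin.prod_univ_two] at hsq
  obtain ⟨r, hr⟩ := hsq
  have h0 := hd 0
  have h1 := hd 1
  constructor
  · rintro ⟨x, hx⟩
    have hx0 : x ≠ 0 := by
      rintro rfl
      apply h0
      rw [hx, mul_zero]
    refine ⟨r / x, ?_⟩
    rw [div_mul_div_comm, ← hr, ← hx]
    field_simp
  · rintro ⟨x, hx⟩
    have hx0 : x ≠ 0 := by
      rintro rfl
      apply h1
      rw [hx, mul_zero]
    refine ⟨r / x, ?_⟩
    rw [div_mul_div_comm, ← hr, ← hx]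
    field_simp

end plane

section

variable {F : Type} [Field F] [Fintype F] {n : ℕ} {c : Fin n → F} {d : Fin 2 → F} {G : Type} [Group G]
  {s : Cfg c G} {ρ : OmV c d →* G}

theorem exists_bb (hS : Sp c) (hd : ∀ i, d i ≠ 0) (w : OO c) : ∃ r : OO d, bb c d w r ∈ Omega F (sqf c d) := by
  obtain ⟨r, hr1, hr2⟩ := exists_ds hS.odd hd (mx w).det (det_cases hS.two_ne (nf_dq hS.two_ne hS.ne) w) (sp w)
  refine ⟨r, bb_mem hS (by norm_num) hd w r ?_ ?_⟩
  · rw [hr1]
    rcases det_cases hS.two_ne (nf_dq hS.two_ne hS.ne) w with h | h <;> rw [h] <;> ring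
  · rw [hr2]
    exact units_sq _

variable [Finite G] (hS : Sp c) (hch : GChart s d ρ) (hq : QF s)

include hS hch

theorem le_NQ : s.M ⊔ closure {s.u, s.u'} ≤ (ρ.range ⊓ s.C) ⊔ s.Q := by
  rw [sup_le_iff]
  refine ⟨(M_le hS hch).trans le_sup_left, ?_⟩
  rw [closure_le]
  rintro g (rfl | hg)
  · obtain ⟨r, hr⟩ := exists_bb hS hch.dne s.z
    exact mem_NQ hS hch (x := ⟨_, hr⟩) rfl s.ut s.uψ
  · rw [Set.mem_singleton_iff.1 hg]
    obtain ⟨r, hr⟩ := exists_bb hS hch.dne s.z'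
    exact mem_NQ hS hch (x := ⟨_, hr⟩) rfl s.ut' s.uψ'

theorem odd_NQ : Odd (((ρ.range ⊓ s.C) ⊔ s.Q).relIndex s.C) :=
  Odd.of_dvd_nat s.idx (relIndex_dvd_of_le_left _ (le_NQ hS hch))

/-- the embedding of `Ω(P)` -/
theorem one_bb_mem {r : OO d} (hr : r ∈ Omega F (dq d)) : bb c d 1 r ∈ Omega F (sqf c d) := by
  have h1 := (mem_Om_iff hS.two_ne (nf_dq hS.two_ne hch.dne) (by simp) _).1 hr
  exact bb_mem hS (by norm_num) hch.dne 1 r (by rw [h1.1, mul_one]; exact Matrix.det_one)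
    (by rw [h1.2, map_one, mul_one])

theorem rho_mem_Q {x : OmV c d} {r : OO d} {w : OO c} (hw : w = 1 ∨ w = negI c) (hx : x.1 = bb c d w r) :
    ρ x ∈ s.Q := by
  refine mem_inf.2 ⟨mem_centralizer_singleton_iff.2 (rho_comm hS hch hx), ?_⟩
  rw [mem_centralizer_iff]
  rintro _ ⟨m, rfl⟩
  have h1 := rho_psi hS hch hx m
  have h2 : cj w m = m := by
    rcases hw with rfl | rfl
    · rw [cj, map_one]
      rfl
    · apply Subtype.ext
      rw [cj_coe]
      have h3 : negI c * m.1 = m.1 * negI c := by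
        apply Subtype.ext
        apply Units.ext
        show (-1 : Matrix _ _ F) * mx m.1 = mx m.1 * (-1 : Matrix _ _ F)
        rw [neg_one_mul, mul_neg_one]
      rw [h3]
      group
  rw [h2] at h1
  exact (mul_inv_eq_iff_eq_mul.1 h1).symm

/-- the map `Ω(P) → Q ∩ K` -/
theorem exists_inP : ∃ f : ↥(Omega F (dq d)) →* OmV c d, (∀ r, (f r).1 = bb c d 1 r.1) := by
  refine ⟨{ toFun := fun r => ⟨bb c d 1 r.1, one_bb_mem hS hch r.2⟩, map_one' := ?_, map_mul' := ?_ }, fun r => rfl⟩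
  · apply Subtype.ext
    exact bb_one c d
  · intro r r'
    apply Subtype.ext
    show bb c d 1 (r.1 * r'.1) = bb c d 1 r.1 * bb c d 1 r'.1
    rw [bb_mul, one_mul]

theorem rho_one {x : OmV c d} {r : OO d} (hx : x.1 = bb c d 1 r) (h : ρ x = 1) : r = 1 := by
  have h1 : Act ρ (ρ x) (bb c d 1 r) := by rw [← hx]; exact act_rho x
  have h2 : Act ρ (ρ x) (bb c d 1 1) := by rw [h, bb_one]; exact Act.one
  exact uniq1 hS hch h1 h2

theorem card_dvd : Nat.card ↥(Omega F (dq d)) ∣ Nat.card ↥(ρ.range ⊓ s.Q) := by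
  obtain ⟨f, hf⟩ := exists_inP hS hch
  have hinj : Function.Injective (ρ.comp f) := by
    rw [injective_iff_map_eq_one]
    intro r hr
    exact Subtype.ext (rho_one hS hch (hf r) hr)
  have h1 : Nat.card ↥(ρ.comp f).range = Nat.card ↥(Omega F (dq d)) :=
    (Nat.card_congr (MonoidHom.ofInjective hinj).toEquiv).symm
  rw [← h1]
  apply card_dvd_of_le
  rintro _ ⟨r, rfl⟩
  exact mem_inf.2 ⟨⟨f r, rfl⟩, rho_mem_Q hS hch (Or.inl rfl) (hf r)⟩

/-- if `-1 ∉ Ω(U)` then `2 |Ω(P)|` divides `|Q ∩ K|` -/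
theorem two_card_dvd (hsq : IsSquare (∏ i, d i)) (hz : negI c ∉ Omega F (dq c)) :
    2 * Nat.card ↥(Omega F (dq d)) ∣ Nat.card ↥(ρ.range ⊓ s.Q) := by
  obtain ⟨f, hf⟩ := exists_inP hS hch
  have hdet1 : ∀ r : OO d, (mx (r * r)).det = 1 := by
    intro r
    rw [mx_mul, Matrix.det_mul]
    rcases det_cases hS.two_ne (nf_dq hS.two_ne hch.dne) r with h | h <;> rw [h] <;> ring
  obtain ⟨r, hr⟩ := exists_bb hS hch.dne (negI c)
  set x : OmV c d := ⟨_, hr⟩ with hx
  set A : Subgroup (OmV c d) := f.range with hA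
  have hxx : x * x ∈ A := by
    refine ⟨⟨r * r, (mem_Om_iff hS.two_ne (nf_dq hS.two_ne hch.dne) (by simp) _).2
      ⟨hdet1 r, by rw [map_mul]; exact units_sq _⟩⟩, ?_⟩
    apply Subtype.ext
    rw [hf]
    show bb c d 1 (r * r) = bb c d (negI c) r * bb c d (negI c) r
    rw [bb_mul, negI_mul_self]
  have hconj : ∀ y : OmV c d, ∀ w : OO c, ∀ r' : OO d, y.1 = bb c d w r' → ∀ a ∈ A, y * a * y⁻¹ ∈ A := by
    rintro y w r' hy _ ⟨q, rfl⟩
    refine ⟨cj r' q, ?_⟩
    apply Subtype.ext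
    rw [hf]
    show bb c d 1 (r' * q.1 * r'⁻¹) = y.1 * (f q).1 * y.1⁻¹
    rw [hf, hy, bb_inv, bb_mul, bb_mul]
    congr 2
    group
  have hnot : x ∉ A := by
    rintro ⟨q, hq⟩
    have h1 := congrArg Subtype.val hq
    rw [hf] at h1
    have h2 := (bb_inj c d h1).1
    apply hz
    rw [← h2]
    exact one_mem _
  have h3 := relIndex_eq_two A x (hconj x (negI c) r rfl) (fun a ha => by
    have h4 := hconj x⁻¹ (negI c)⁻¹ r⁻¹ (by
      show (bb c d (negI c) r)⁻¹ = _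
      rw [bb_inv]) a ha
    rwa [inv_inv] at h4) hxx hnot
  have hcardA : Nat.card ↥A = Nat.card ↥(Omega F (dq d)) := by
    have hinj : Function.Injective f := by
      rw [injective_iff_map_eq_one]
      intro r hr
      have h5 := congrArg Subtype.val hr
      rw [hf] at h5
      have h6 : bb c d 1 r.1 = bb c d 1 1 := by rw [h5, bb_one]; rfl
      exact Subtype.ext (bb_inj c d h6).2
    exact (Nat.card_congr (MonoidHom.ofInjective hinj).toEquiv).symm
  have hcard : Nat.card ↥(A ⊔ zpowers x) = 2 * Nat.card ↥(Omega F (dq d)) := by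
    rw [card_eq_mul_relIndex (le_sup_left (a := A) (b := zpowers x)), h3, hcardA, Nat.mul_comm]
  have hker : ρ.ker = ⊥ := by
    rw [eq_bot_iff]
    intro y hy
    have h5 : Act ρ (ρ y) y.1 := act_rho y
    have h6 : Act ρ (ρ y) (bb c d 1 1) := by rw [MonoidHom.mem_ker.1 hy, bb_one]; exact Act.one
    rcases uniq hS hch h5 h6 with h7 | h7
    · rw [mem_bot]
      exact Subtype.ext (by rw [h7, bb_one]; rfl)
    · exfalso
      rw [bb_one, mul_one] at h7
      have h8 := y.2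
      rw [h7, negV_eq, bb_mem_iff hS hch.dne] at h8
      have h9 : (mx (negI d)).det = 1 := by
        show (-1 : Matrix (Fin 2) (Fin 2) F).det = 1
        rw [Matrix.det_fin_two]
        simp
      have h10 : sp (negI d) = 1 := sp_negI hS.odd hch.dne hsq
      rw [h9, h10, mul_one, mul_one] at h8
      exact hz ((mem_Om_iff hS.two_ne (nf_dq hS.two_ne hS.ne)
        (by rw [Fintype.card_fin]; have := hS.n8; omega) _).2 h8)
  have h5 : Nat.card ↥((A ⊔ zpowers x).map ρ) = Nat.card ↥(A ⊔ zpowers x) :=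
    (Nat.card_congr ((A ⊔ zpowers x).equivMapOfInjective ρ ((MonoidHom.ker_eq_bot_iff ρ).1 hker)).toEquiv).symm
  rw [← hcard, ← h5]
  apply card_dvd_of_le
  rw [Subgroup.map_sup, sup_le_iff]
  constructor
  · rintro _ ⟨_, ⟨q, rfl⟩, rfl⟩
    exact mem_inf.2 ⟨⟨f q, rfl⟩, rho_mem_Q hS hch (Or.inl rfl) (hf q)⟩
  · rw [MonoidHom.map_zpowers, zpowers_le]
    exact mem_inf.2 ⟨⟨x, rfl⟩, rho_mem_Q hS hch (Or.inr rfl) (x := x) rfl⟩

end

end Cfsg.Agent.H323.OI

namespace Cfsg.Agent.H323.OI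

open Cfsg Subgroup Matrix QuadraticMap
open Cfsg.Agent.H183

section

variable {F : Type} [Field F] [Fintype F] {n : ℕ} {c : Fin n → F} {d : Fin 2 → F} {G : Type} [Group G]
  {s : Cfg c G} {ρ : OmV c d →* G} [Finite G] (hS : Sp c) (hch : GChart s d ρ) (hq : QF s)

include hS hch

/-- the 2-part of the order of `c₀`, if `-1 ∉ Ω(U)` -/
theorem c0_dvd (hq : QF s) (hE : PExtU) (hz : negI c ∉ Omega F (dq c)) :
    ∃ m : ℕ, Odd m ∧ orderOf s.c0 ∣ Nat.card ↥(Omega F (dq d)) * m := by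
  obtain ⟨r, r', hr, hr', hrr, hrr', hc0⟩ := exists_r hS hch hE
  set k : OO d := r * r' * r⁻¹ * r'⁻¹ with hk
  have hkO : k ∈ Omega F (dq d) := commutator_mem_commutator (mem_top r) (mem_top r')
  have h1 : orderOf k ∣ Nat.card ↥(Omega F (dq d)) := by
    rw [← orderOf_mk k hkO]
    exact orderOf_dvd_natCard _
  set e := s.c0 ^ Nat.card ↥(Omega F (dq d)) with he
  have h3 : Act ρ e (bb c d 1 1) := by
    have h4 := hc0.pow (Nat.card ↥(Omega F (dq d)))
    rwa [bb_pow, orderOf_dvd_iff_pow_eq_one.1 h1] at h4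
  have h5 : Odd (orderOf e) := by
    by_contra h6
    rw [Nat.not_odd_iff_even] at h6
    obtain ⟨l, hl⟩ := h6
    have hpos : 0 < orderOf e := orderOf_pos e
    -- the involution of `⟨e⟩`
    have h7 : (e ^ l) * (e ^ l) = 1 := by rw [← pow_add, ← hl, pow_orderOf_eq_one]
    have h8 : e ^ l ≠ 1 := by
      intro h9
      have := orderOf_dvd_of_pow_eq_one h9
      have h10 := Nat.le_of_dvd (by omega) this
      omega
    have h9 : e ^ l ∈ zpowers s.c0 := pow_mem (pow_mem (mem_zpowers _) _) _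
    obtain ⟨j, hj⟩ := hq.tI hz
    have h10 : s.t ∈ zpowers s.c0 := by rw [hj]; exact pow_mem (mem_zpowers _) _
    have h11 : (⟨e ^ l, h9⟩ : ↥(zpowers s.c0)) = ⟨s.t, h10⟩ :=
      cyc_unique (Subtype.ext h7) (Subtype.ext s.tt) (fun h => h8 (congrArg Subtype.val h))
        (fun h => s.t1 (congrArg Subtype.val h))
    have h12 : e ^ l = s.t := congrArg Subtype.val h11
    have h13 := h3.pow l
    rw [bb_pow, one_pow, h12] at h13
    have h14 := uniq1 hS hch h13 (act_t hS hch)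
    exact negI_ne d hS.two_ne (by norm_num) h14.symm
  refine ⟨orderOf e, h5, ?_⟩
  apply orderOf_dvd_of_pow_eq_one
  rw [pow_mul, ← he, pow_orderOf_eq_one]

theorem odd_relIndex (hq : QF s) (hE : PExtU) (hsq : IsSquare (∏ i, d i)) : Odd ((ρ.range ⊓ s.Q).relIndex s.Q) := by
  have hRle : ρ.range ⊓ s.Q ≤ s.Q := inf_le_right
  by_cases hz : negI c ∈ Omega F (dq c)
  · have h1 := odd_III hS hch hq hz
    have h2 : (ρ.range ⊓ s.C).relIndex s.Q = (ρ.range ⊓ s.Q).relIndex s.Q := by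
      rw [← inf_relIndex_right (ρ.range ⊓ s.C) s.Q, ← inf_relIndex_right (ρ.range ⊓ s.Q) s.Q]
      have h3 : s.Q ≤ s.C := inf_le_left
      have h4 : ρ.range ⊓ s.C ⊓ s.Q = ρ.range ⊓ s.Q ⊓ s.Q := by
        rw [inf_assoc, inf_assoc, inf_eq_right.2 h3, inf_idem]
      rw [h4]
    rw [← h2]
    exact h1
  · obtain ⟨m, hm, hmd⟩ := c0_dvd hS hch hq hE hz
    have h1 := two_card_dvd hS hch hsq hz
    have h2 : Nat.card ↥s.Q = orderOf s.c0 * (zpowers s.c0).relIndex s.Q := by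
      have h3 : zpowers s.c0 ≤ s.Q := by rw [zpowers_le]; exact hq.c0Q
      rw [card_eq_mul_relIndex h3, Nat.card_zpowers]
    have h4 := hq.four
    have h3 := card_eq_mul_relIndex hRle
    by_contra h5
    rw [Nat.not_odd_iff_even] at h5
    obtain ⟨l, hl⟩ := h5
    obtain ⟨x, hx⟩ := h1
    obtain ⟨y, hy⟩ := hmd
    set w := Nat.card ↥(Omega F (dq d)) with hw
    set I := (zpowers s.c0).relIndex s.Q with hI
    have hwpos : 0 < w := Nat.card_pos
    -- w * m * I is a multiple of 4 * w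
    have h6 : 4 * w * (x * l) = orderOf s.c0 * I := by
      rw [← h2, h3, hx, hl]
      ring
    have h7 : w * (m * I) = w * (4 * (x * l * y)) := by
      calc w * (m * I) = (w * m) * I := by ring
        _ = orderOf s.c0 * y * I := by rw [hy]
        _ = (orderOf s.c0 * I) * y := by ring
        _ = 4 * w * (x * l) * y := by rw [h6]
        _ = w * (4 * (x * l * y)) := by ring
    have h8 := Nat.eq_of_mul_eq_mul_left hwpos h7
    apply h4
    have h9 : 4 ∣ m * I := ⟨_, h8⟩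
    have h10 : Nat.Coprime 4 m := by
      have : Nat.Coprime 2 m := (Nat.coprime_two_left).2 hm
      exact Nat.Coprime.pow_left 2 this
    exact h10.dvd_of_dvd_mul_left h9

end

end Cfsg.Agent.H323.OI
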