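import Mathlib
import Cfsg.Agent.H323.OI.GeoD
import Cfsg.Agent.H323.OI.Pieces2
import Cfsg.Agent.SignalizersComponents.LayerBasic
import Cfsg.Agent.Lib.Cores

/-!
# S3325: the final assembly, from the pieces (helper323)
-/

set_option autoImplicit false

namespace Cfsg.Agent.H323.OI

open Cfsg Subgroup Matrix QuadraticMap
open Cfsg.Agent.H183

/-! ### Numbers -/

theorem odd_ordCompl_mul {a b : ℕ} (ha : 0 < a) (hb : Odd b) :
    (a * b) / 2 ^ ((a * b).factorization 2) = a / 2 ^ (a.factorization 2) * b := by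
  rw [Nat.ordCompl_mul]
  congr 1
  have h1 : b.factorization 2 = 0 := Nat.factorization_eq_zero_of_not_dvd (by
    rw [← even_iff_two_dvd, Nat.not_even_iff_odd]
    exact hb)
  rw [h1, pow_zero, Nat.div_one]

theorem numeric {w N : ℕ} (hw : 0 < w) (hN : 2 * w = N) {x I : ℕ} (hx : 0 < x) (hI : Odd I)
    (h : 2 * (w * x * I) < 3 * N ∨
      (w * x * I) / 2 ^ ((w * x * I).factorization 2) < 3 * (N / 2 ^ (N.factorization 2))) : I < 3 := by
  subst hN
  by_contra h3
  rw [not_lt] at h3
  rcases h with h | h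
  · have h4 : w * 1 * 3 ≤ w * x * I := Nat.mul_le_mul (Nat.mul_le_mul_left _ hx) h3
    omega
  · rw [odd_ordCompl_mul (Nat.mul_pos hw hx) hI, Nat.ordCompl_mul, Nat.ordCompl_mul 2 w] at h
    have e2 : 2 / 2 ^ (Nat.factorization 2 2) = 1 := by
      rw [Nat.Prime.factorization_self Nat.prime_two, pow_one, Nat.div_self (by norm_num)]
    rw [e2, one_mul] at h
    have h5 : 0 < w / 2 ^ w.factorization 2 := Nat.ordCompl_pos 2 hw.ne'
    have h6 : 0 < x / 2 ^ x.factorization 2 := Nat.ordCompl_pos 2 hx.ne'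
    have h7 : w / 2 ^ w.factorization 2 * 1 * 3 ≤
        w / 2 ^ w.factorization 2 * (x / 2 ^ x.factorization 2) * I :=
      Nat.mul_le_mul (Nat.mul_le_mul_left _ h6) h3
    omega

theorem odd_lt_three {I : ℕ} (hI : Odd I) (h : I < 3) : I = 1 := by
  obtain ⟨k, rfl⟩ := hI
  omega

/-! ### The main theorem -/

section

variable {F : Type} [Field F] [Fintype F] {n : ℕ} {c : Fin n → F}

/-- the bound of S3325 -/
def Bd (F : Type) [Fintype F] (k : ℕ) : Prop :=
  (Fintype.card F % 4 = 1 → 2 * k < 3 * (Fintype.card F - 1) ∨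
      k / 2 ^ (k.factorization 2) < 3 * ((Fintype.card F - 1) / 2 ^ ((Fintype.card F - 1).factorization 2))) ∧
    (Fintype.card F % 4 = 3 → 2 * k < 3 * (Fintype.card F + 1) ∨
      k / 2 ^ (k.factorization 2) < 3 * ((Fintype.card F + 1) / 2 ^ ((Fintype.card F + 1).factorization 2)))

/-- the plane case: the bound forces the odd parts to be one -/
theorem plane (hS : Sp c) (h2 : PO2) (hE : PExtU) {G : Type} [Group G] [Finite G] {s : Cfg c G} (hq : QF s)
    {b : ℕ} {d : Fin b → F} {ρ : OmV c d →* G} (hch : GChart s d ρ) {o : ℕ} (ho : Odd o)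
    (hb : Bd F (Nat.card ↥s.Q * o)) :
    ∃ (e : b = 2), IsSquare (∏ i, d i) ∧ s.Q ≤ ρ.range ∧ o = 1 := by
  have hb1 := hch.b1
  have hbn := b_ne_one hS hch hq hE
  have hb3 := b_lt_three hS hch hq
  have hb2 : b = 2 := by omega
  have hsq := sq_of_two hS hch hq hE h2 hb2
  subst hb2
  refine ⟨rfl, hsq, ?_⟩
  have hcs := card_of_square hS h2 d hch.dne hsq
  obtain ⟨x, hx⟩ := card_dvd hS hch
  have hodd := odd_relIndex hS hch hq hE hsq
  have hQ := card_eq_mul_relIndex (inf_le_right : ρ.range ⊓ s.Q ≤ s.Q)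
  set I := (ρ.range ⊓ s.Q).relIndex s.Q with hI
  have hwpos : 0 < Nat.card ↥(Omega F (dq d)) := Nat.card_pos
  have hxpos : 0 < x := by
    rcases Nat.eq_zero_or_pos x with h | h
    · exfalso
      rw [h, mul_zero] at hx
      exact absurd hx (Nat.card_pos).ne'
    · exact h
  have hIo : Odd (I * o) := hodd.mul ho
  have key : I * o < 3 := by
    rw [hQ, hx] at hb
    have e : Nat.card ↥(Omega F (dq d)) * x * I * o = Nat.card ↥(Omega F (dq d)) * x * (I * o) := by ring
    rw [e] at hb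
    rcases four_cases hS with h | h
    · exact numeric hwpos (hcs.1 h) hxpos hIo (hb.1 h)
    · exact numeric hwpos (hcs.2 h) hxpos hIo (hb.2 h)
  have h1 := odd_lt_three hIo key
  have hI1 : I = 1 := Nat.eq_one_of_mul_eq_one_right h1
  have ho1 : o = 1 := Nat.eq_one_of_mul_eq_one_left h1
  refine ⟨?_, ho1⟩
  have h4 : s.Q ≤ ρ.range ⊓ s.Q := relIndex_eq_one.1 (by rw [← hI]; exact hI1)
  exact h4.trans inf_le_left

end

theorem main (hOmF : POmF) (hQF : PQF) (hExtO : PExtO) (hTri : PTri) (hB1 : PB1) (hB23 : PB23) (hRows : Rows)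
    (hCover : PCover) (hE : PExtU) (hWitt : PWitt) (h2 : PO2) (hComp : PComp) (hQuot : PQuot) (hRow : PRow)
    (hEnd : PEnd) (hOne : POne) : PMain0 := by
  intro F _ _ n c hS G _ _ s h5
  have h5' : Bd F (Nat.card ↥s.Q) := h5
  have hO : OmF c := hOmF c hS.odd hS.ne hS.n8
  have hq : QF s := hQF c hO hS.two_ne s
  by_cases ha : centralizer {s.t} ⊔ oddCore G = ⊤
  · exact Or.inl ha
  obtain ⟨hMO, s', ht', hψ', -, -, -, -, hC', hQ', hcard⟩ := hQuot c hO s
  have hq' : QF s' := hQF c hO hS.two_ne s'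
  have hO' : oddCore (G ⧸ oddCore G) = ⊥ := Cfsg.Agent.Lib.Cores.pPrimeCore_quotient_pPrimeCore 2
  have hM' : s'.M = s.M.map (QuotientGroup.mk' (oddCore G)) := by
    show s'.ψ.range = s.ψ.range.map _
    rw [hψ', MonoidHom.range_comp]
  by_cases hB : IsComponent (s.M.map (QuotientGroup.mk' (oddCore G)))
  · rcases Nat.even_or_odd n with hn | hn
    · exfalso
      have h1 := hB23 c hO hS.two_ne hn (hExtO c hS) s' hq' hO' (by rw [hM']; exact hB)
      apply ha
      have h3 : s'.C = ⊤ := by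
        rw [eq_top_iff]
        intro g _
        exact mem_centralizer_singleton_iff.2 (h1 g)
      rw [hC'] at h3
      have h4 := congrArg (Subgroup.comap (QuotientGroup.mk' (oddCore G))) h3
      rw [comap_map_eq, QuotientGroup.ker_mk', comap_top] at h4
      exact h4
    · exact Or.inr (Or.inl ⟨hn, hB1 c hO hS.two_ne hn s hq hB ha⟩)
  · right; right
    -- the quotient
    have hodd : Odd (Nat.card ↥(centralizer {s.t} ⊓ oddCore G)) := by
      have h1 : Odd (Nat.card ↥(oddCore G)) := Nat.coprime_two_right.1 (Lib.Cores.pPrimeCore_coprime 2)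
      exact Odd.of_dvd_nat h1 (card_dvd_of_le inf_le_right)
    have hbot : oddCore G = ⊥ := by
      rcases hTri c hO s' hq' hO' with h | ⟨K, hK, hMK, hKt⟩
      · exact absurd (by rw [← hM']; exact h) hB
      · obtain ⟨b, d, ρ, hch, hρ⟩ := hRow hRows hCover c hO hS s' hq' hO' K hK hMK hKt
        obtain ⟨hb, hsq, hQK, ho⟩ := plane hS h2 hE hq' hch hodd (by rw [← hcard]; exact h5')
        have h1 : centralizer {s.t} ⊓ oddCore G = ⊥ := card_eq_one.1 ho
        refine hOne s.t s.tt h1 K (by rw [← ht']; exact hKt) ?_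
        rw [← ht', ← hρ]
        apply hQK
        refine mem_inf.2 ⟨mem_centralizer_singleton_iff.2 rfl, ?_⟩
        rw [mem_centralizer_iff]
        rintro _ ⟨m, rfl⟩
        exact (s'.fix m).symm
    rcases hTri c hO s hq hbot with h | ⟨K, hK, hMK, hKt⟩
    · exfalso
      apply hB
      have hinj : Function.Injective (QuotientGroup.mk' (oddCore G)) := by
        rw [← MonoidHom.ker_eq_bot_iff, QuotientGroup.ker_mk', hbot]
      have h1 := Cfsg.Agent.SignalizersComponents.LayerBasic.isComponent_map_equiv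
        (MulEquiv.ofBijective (QuotientGroup.mk' (oddCore G)) ⟨hinj, QuotientGroup.mk'_surjective _⟩) h
      exact h1
    · obtain ⟨b, d, ρ, hch, hρ⟩ := hRow hRows hCover c hO hS s hq hbot K hK hMK hKt
      obtain ⟨hb, hsq, hQK, -⟩ := plane (o := 1) hS h2 hE hq hch odd_one (by rw [mul_one]; exact h5')
      subst hb
      refine hEnd hWitt hComp c hS s d ρ hch hsq hQK ?_
      have h1 := odd_NQ hS hch
      have h3 : s.Q ≤ ρ.range ⊓ s.C := le_inf hQK inf_le_left
      rwa [sup_eq_left.2 h3] at h1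

end Cfsg.Agent.H323.OI
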